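import Cfsg.Agent.SylowL.StepTwo.CaseA

/-!
# Step 2: conclusion
-/

set_option autoImplicit false

namespace Cfsg.Agent.SylowL.StepTwo

open Matrix
open scoped commutatorElement
open Cfsg.Agent.SylowL.Lev Cfsg.Agent.SylowL.UT Cfsg.Agent.SylowL.Pat
open Cfsg.Agent.SylowL.Series Cfsg.Agent.SylowL.Lower

variable {m : ℕ} {F : Type*} [Field F]

local notation "Mat" => Matrix (Fin m) (Fin m) F

variable {e : Submodule F (Matrix (Fin m) (Fin m) F)} {he : IsAlg e} {CY : Subgroup (UT m F)}
  {v : Submodule F (Matrix (Fin m) (Fin m) F)}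

/-- Step E. -/
theorem no_three (A : Act e he CY (pat F (ZD m)) v) {z l i j o j' : Fin m} (hz : (z : ℕ) = 0)
    (hl : (l : ℕ) + 1 = m) (ho : (o : ℕ) = 1) (hM1 : Max e z j) (hM2 : Max e i l)
    (hM3 : Max e o j') (hjj : (j : ℕ) < j') (hj'l : (j' : ℕ) < l) (hi1 : 1 ≤ (i : ℕ)) : False := by
  have hzj : (z : ℕ) < j := hM1.lt
  have hil : (i : ℕ) < l := hM2.lt
  have hoj : (o : ℕ) < j' := hM3.lt
  have hI1 := hM1.inv he
  have hI2 := hM2.inv he
  have hI3 := hM3.inv he
  have nzi : z ≠ i := fun h => by rw [h] at hz; omega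
  have nzo : z ≠ o := fun h => by rw [h] at hz; omega
  have njz : j ≠ z := fun h => by rw [h] at hzj; omega
  have nli : l ≠ i := fun h => by rw [← h] at hil; omega
  have nlz : l ≠ z := fun h => by rw [h] at hl; omega
  have nlo : l ≠ o := fun h => by rw [h] at hl; omega
  have nlj : l ≠ j := fun h => by rw [h] at hl; omega
  have nlj' : l ≠ j' := fun h => by rw [h] at hl; omega
  have nj'z : j' ≠ z := fun h => by rw [h] at hoj; omega
  have nj'o : j' ≠ o := fun h => by rw [h] at hoj; omega
  have njj' : j' ≠ j := fun h => by rw [h] at hjj; omega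
  -- column `z` and row `l` of elements of `v` vanish
  have hvz : ∀ n ∈ v, ∀ a, n a z = 0 := fun n hn a => A.apply_eq_zero hn (by omega)
  have hvl : ∀ n ∈ v, ∀ b, n l b = 0 := fun n hn b => A.apply_eq_zero hn (by omega)
  have hvoo : ∀ n ∈ v, ∀ a : Fin m, 1 ≤ (a : ℕ) → n a o = 0 := fun n hn a ha =>
    A.apply_eq_zero hn (by omega)
  -- row `j'`
  have hj'row : ∀ n ∈ v, ∀ x : Fin m, (x : ℕ) + 1 < m → n j' x = 0 := by
    intro n hn x hx
    by_cases hxj : x = j'
    · rw [hxj]; exact A.apply_eq_zero hn le_rfl
    · refine A.row_eq (i := z) (j := j')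
        (hM1.mem_of_lt le_rfl (by omega) (Or.inr (by omega))) hn ?_ hxj
      unfold ZD
      simp only [not_and]
      omega
  -- brackets
  have br1 : ∀ c0 c1 c2 : F, c0 • single z j (1 : F) + c1 • single i l (1 : F)
      + c2 • single o j' (1 : F) ∈ e → ∀ n ∈ v, ∀ b : Fin m, (b : ℕ) + 1 < m →
      c0 * n j b = if b = j' then c2 * n z o else 0 := by
    intro c0 c1 c2 hc n hn b hb
    have nbl : b ≠ l := fun h => by rw [h] at hb; omega
    have h3 := A.br hc hn (a := z) (b := b) (by unfold ZD; simp only [not_and]; omega)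
    simp only [mul_add, add_mul, Matrix.add_apply, mul_smul_comm, smul_mul_assoc,
      Matrix.smul_apply, single_mul_entry, mul_single_entry, if_neg nzi, if_neg nzo,
      if_neg nbl, if_pos, smul_eq_mul, mul_zero, zero_add, add_zero, one_mul, mul_one,
      hvz n hn, ite_self] at h3
    rw [← h3]
    by_cases h : b = j'
    · rw [if_pos h, if_pos h]
    · rw [if_neg h, if_neg h, mul_zero]
  have br2 : ∀ c0 c1 c2 : F, c0 • single z j (1 : F) + c1 • single i l (1 : F)
      + c2 • single o j' (1 : F) ∈ e → ∀ n ∈ v, ∀ a : Fin m, 1 ≤ (a : ℕ) →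
      c1 * n a i = if a = o then c2 * n j' l else 0 := by
    intro c0 c1 c2 hc n hn a ha
    have naz : a ≠ z := fun h => by rw [h] at ha; omega
    have h3 := A.br hc hn (a := a) (b := l) (by unfold ZD; simp only [not_and]; omega)
    simp only [mul_add, add_mul, Matrix.add_apply, mul_smul_comm, smul_mul_assoc,
      Matrix.smul_apply, single_mul_entry, mul_single_entry, if_neg naz, if_neg nlj,
      if_neg nlj', if_pos, smul_eq_mul, mul_zero, zero_add, add_zero, one_mul, mul_one,
      hvl n hn, ite_self] at h3
    rw [h3]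
    by_cases h : a = o
    · rw [if_pos h, if_pos h]
    · rw [if_neg h, if_neg h, mul_zero]
  -- nonvanishing
  have nv1 : ¬ ∀ n ∈ v, ∀ b : Fin m, (b : ℕ) + 1 < m → n j b = 0 := by
    intro hcon
    apply hM1.notMem
    refine A.of_single hM1.lt fun n hn a x hD => ?_
    rw [hvz n hn, ite_self]
    by_cases ha : a = z
    · rw [if_pos ha, hcon n hn x]
      have h1 : (x : ℕ) + 1 ≠ m := fun h => hD ⟨by rw [ha]; exact hz, h⟩
      omega
    · rw [if_neg ha]
  have nv2 : ¬ ∀ n ∈ v, ∀ a : Fin m, 1 ≤ (a : ℕ) → n a i = 0 := by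
    intro hcon
    apply hM2.notMem
    refine A.of_single hM2.lt fun n hn a x hD => ?_
    rw [hvl n hn, ite_self]
    by_cases hx : x = l
    · rw [if_pos hx, hcon n hn a]
      have h1 : (a : ℕ) ≠ 0 := fun h => hD ⟨h, by rw [hx]; exact hl⟩
      omega
    · rw [if_neg hx]
  -- independence of two
  have ind2 : ∀ c0 c1 : F, c0 • single z j (1 : F) + c1 • single i l (1 : F) ∈ e →
      c0 = 0 ∧ c1 = 0 := by
    intro c0 c1 hc
    have hc' : c0 • single z j (1 : F) + c1 • single i l (1 : F)
      + (0 : F) • single o j' (1 : F) ∈ e := by rwa [zero_smul, add_zero]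
    constructor
    · by_contra h0
      apply nv1
      intro n hn b hb
      have h1 := br1 _ _ _ hc' n hn b hb
      rw [zero_mul, ite_self] at h1
      exact (mul_eq_zero.1 h1).resolve_left h0
    · by_contra h0
      apply nv2
      intro n hn a ha
      have h1 := br2 _ _ _ hc' n hn a ha
      rw [zero_mul, ite_self] at h1
      exact (mul_eq_zero.1 h1).resolve_left h0
  have p11 : (single z j (1 : F) : Mat) * single z j (1 : F) ∈ e := hI1.sq
  have p12 : (single z j (1 : F) : Mat) * single i l (1 : F) ∈ e := by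
    by_cases h : j = i
    · subst h
      rw [single_mul_single_same, mul_one]
      exact hM1.mem_of_lt le_rfl (by omega) (Or.inr (by omega))
    · rw [single_mul_single_of_ne (h := h)]; exact zero_mem _
  have p13 : (single z j (1 : F) : Mat) * single o j' (1 : F) ∈ e := by
    by_cases h : j = o
    · subst h
      rw [single_mul_single_same, mul_one]
      exact hM1.mem_of_lt le_rfl (by omega) (Or.inr (by omega))
    · rw [single_mul_single_of_ne (h := h)]; exact zero_mem _
  have p21 : (single i l (1 : F) : Mat) * single z j (1 : F) ∈ e := by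
    rw [single_mul_single_of_ne (h := nlz)]; exact zero_mem _
  have p22 : (single i l (1 : F) : Mat) * single i l (1 : F) ∈ e := hI2.sq
  have p23 : (single i l (1 : F) : Mat) * single o j' (1 : F) ∈ e := by
    rw [single_mul_single_of_ne (h := nlo)]; exact zero_mem _
  have p31 : (single o j' (1 : F) : Mat) * single z j (1 : F) ∈ e := by
    rw [single_mul_single_of_ne (h := nj'z)]; exact zero_mem _
  have p32 : (single o j' (1 : F) : Mat) * single i l (1 : F) ∈ e := by
    by_cases h : j' = i
    · subst h
      rw [single_mul_single_same, mul_one]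
      exact hM3.mem_of_lt le_rfl (by omega) (Or.inr (by omega))
    · rw [single_mul_single_of_ne (h := h)]; exact zero_mem _
  have p33 : (single o j' (1 : F) : Mat) * single o j' (1 : F) ∈ e := hI3.sq
  -- rank at least two
  have rk2 : ∀ x, Inv e x → 2 + Module.finrank F (cen (pat F (ZD m)) v x) ≤
      Module.finrank F v := by
    intro x hx
    refine A.family (n := 2) ![single z j (1 : F), single i l (1 : F)] ?_ ?_ ?_ ?_ ?_ hx
    · intro s
      fin_cases s
      · exact hI1.lev
      · exact hI2.lev
    · intro s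
      fin_cases s
      · exact hI1.left
      · exact hI2.left
    · intro s
      fin_cases s
      · exact hI1.right
      · exact hI2.right
    · intro s t
      fin_cases s <;> fin_cases t
      · exact p11
      · exact p12
      · exact p21
      · exact p22
    · intro c hc
      have hc' : c 0 • single z j (1 : F) + c 1 • single i l (1 : F) ∈ e := by
        simpa [Fin.sum_univ_two] using hc
      obtain ⟨h1, h2⟩ := ind2 _ _ hc'
      funext s
      fin_cases s
      · exact h1
      · exact h2
  -- upper bounds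
  have ub3 : Module.finrank F v ≤ Module.finrank F
      (cen (pat F (ZD m)) v (single o j' (1 : F))) + 2 := by
    refine finrank_le_cen ![(z, o), (j', l)] fun y hy hy0 => ?_
    have hy1 : y z o = 0 := hy0 0
    have hy2 : y j' l = 0 := hy0 1
    refine mem_pat'.2 fun a b _ => ?_
    have h3 : (if b = j' then y a o * 1 else 0) = 0 := by
      by_cases hx : b = j'
      · rw [if_pos hx, mul_one]
        by_cases ha : 1 ≤ (a : ℕ)
        · exact hvoo y hy a ha
        · have h3 : a = z := Fin.ext (by omega)
          rw [h3]; exact hy1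
      · rw [if_neg hx]
    have h4 : (if a = o then 1 * y j' b else 0) = 0 := by
      by_cases ha : a = o
      · rw [if_pos ha, one_mul]
        by_cases hx : (b : ℕ) + 1 < m
        · exact hj'row y hy b hx
        · have h3 : b = l := Fin.ext (by omega)
          rw [h3]; exact hy2
      · rw [if_neg ha]
    rw [Matrix.sub_apply, single_mul_entry, mul_single_entry, h3, h4, sub_zero]
  have h := A.family (n := 3) ![single z j (1 : F), single i l (1 : F), single o j' (1 : F)]
    ?_ ?_ ?_ ?_ ?_ hI3
  · omega
  · intro s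
    fin_cases s
    · exact hI1.lev
    · exact hI2.lev
    · exact hI3.lev
  · intro s
    fin_cases s
    · exact hI1.left
    · exact hI2.left
    · exact hI3.left
  · intro s
    fin_cases s
    · exact hI1.right
    · exact hI2.right
    · exact hI3.right
  · intro s t
    fin_cases s <;> fin_cases t
    · exact p11
    · exact p12
    · exact p13
    · exact p21
    · exact p22
    · exact p23
    · exact p31
    · exact p32
    · exact p33
  · intro c hc
    have hc' : c 0 • single z j (1 : F) + c 1 • single i l (1 : F) + c 2 • single o j' (1 : F)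
        ∈ e := by
      simpa [Fin.sum_univ_three] using hc
    have hc0 : c 0 = 0 := by
      by_contra h0
      have h1 := rk2 _ hI1
      have h2 : Module.finrank F v ≤ Module.finrank F
          (cen (pat F (ZD m)) v (single z j (1 : F))) + 1 := by
        refine finrank_le_cen (fun _ : Fin 1 => (j, j')) fun y hy hy0 => ?_
        have hy1 : y j j' = 0 := hy0 0
        refine mem_pat'.2 fun a b hD => ?_
        rw [Matrix.sub_apply, single_mul_entry, mul_single_entry, hvz y hy, zero_mul, ite_self,
          sub_zero]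
        by_cases ha : a = z
        · rw [if_pos ha, one_mul]
          have h1 : (b : ℕ) + 1 ≠ m := fun h => hD ⟨by rw [ha]; exact hz, h⟩
          by_cases hb : b = j'
          · rw [hb]; exact hy1
          · have h3 := br1 _ _ _ hc' y hy b (by omega)
            rw [if_neg hb] at h3
            exact (mul_eq_zero.1 h3).resolve_left h0
        · rw [if_neg ha]
      omega
    have hc1 : c 1 = 0 := by
      by_contra h0
      have h1 := rk2 _ hI2
      have h2 : Module.finrank F v ≤ Module.finrank F
          (cen (pat F (ZD m)) v (single i l (1 : F))) + 1 := by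
        refine finrank_le_cen (fun _ : Fin 1 => (o, i)) fun y hy hy0 => ?_
        have hy1 : y o i = 0 := hy0 0
        refine mem_pat'.2 fun a b hD => ?_
        rw [Matrix.sub_apply, single_mul_entry, mul_single_entry, hvl y hy, mul_zero, ite_self,
          zero_sub, neg_eq_zero]
        by_cases hb : b = l
        · rw [if_pos hb, mul_one]
          have h1 : (a : ℕ) ≠ 0 := fun h => hD ⟨h, by rw [hb]; exact hl⟩
          by_cases ha : a = o
          · rw [ha]; exact hy1
          · have h3 := br2 _ _ _ hc' y hy a (by omega)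
            rw [if_neg ha] at h3
            exact (mul_eq_zero.1 h3).resolve_left h0
        · rw [if_neg hb]
      omega
    have hc2 : c 2 = 0 := by
      by_contra h0
      apply hM3.notMem
      rw [hc0, hc1, zero_smul, zero_smul, zero_add, zero_add] at hc'
      have h4 := e.smul_mem (c 2)⁻¹ hc'
      rwa [smul_smul, inv_mul_cancel₀ h0, one_smul] at h4
    funext s
    fin_cases s
    · exact hc0
    · exact hc1
    · exact hc2

/-- (2a): the first row and the last column are in `e`. -/
theorem Two.interior (T : Two e he CY) {z l : Fin m} (hz : (z : ℕ) = 0) (hl : (l : ℕ) + 1 = m)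
    (hm : 3 ≤ m) (i j : Fin m) : ¬ Max e z j ∧ ¬ Max e i l := by
  have key : ∀ i j : Fin m, Max e z j → Max e i l → False := by
    intro i j hM1 hM2
    obtain ⟨o, ho⟩ : ∃ o : Fin m, (o : ℕ) = 1 := ⟨⟨1, by omega⟩, rfl⟩
    have hol : o < l := by rw [Fin.lt_def]; omega
    obtain ⟨j', hM3, h1, h2⟩ := T.exists_j' hz hl hM1 ho hol
    obtain ⟨v, A⟩ := T.z_active hz hl hM1 ho hol hM3 h1 h2
    have hi1 : 1 ≤ (i : ℕ) := by
      by_contra h
      apply hM2.notMem
      have h3 : i = z := Fin.ext (by omega)
      rw [h3]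
      have h4 : z < l := by rw [Fin.lt_def]; omega
      exact T.mem_of_root (T.root_zl hz hl h4 1)
    exact no_three A hz hl ho hM1 hM2 hM3 h1 h2 hi1
  constructor
  · intro hM
    obtain ⟨i', hM'⟩ := T.exists_col hz hl hM
    exact key i' j hM hM'
  · intro hM
    obtain ⟨j', hM'⟩ := T.exists_row hz hl hM
    exact key i j' hM' hM

/-- Step 2: `E` is one of the `Q_i`. -/
theorem Two.concl (hm : 3 ≤ m) (T : Two e he CY) : Concl e := by
  obtain ⟨z, hz⟩ : ∃ z : Fin m, (z : ℕ) = 0 := ⟨⟨0, by omega⟩, rfl⟩
  obtain ⟨l, hl⟩ : ∃ l : Fin m, (l : ℕ) + 1 = m := ⟨⟨m - 1, by omega⟩, by simp only; omega⟩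
  obtain ⟨o, ho⟩ : ∃ o : Fin m, (o : ℕ) = 1 := ⟨⟨1, by omega⟩, rfl⟩
  have hrow0 : ∀ b, z < b → Mem e z b := by
    intro b hb
    by_contra h
    obtain ⟨a', b', h1, _, h3⟩ := exists_max hb h
    have h4 : a' = z := Fin.ext (by rw [Fin.le_def] at h1; omega)
    rw [h4] at h3
    exact (T.interior hz hl hm z b').1 h3
  have hcoll : ∀ a, a < l → Mem e a l := by
    intro a ha
    by_contra h
    obtain ⟨a', b', _, h2, h3⟩ := exists_max ha h
    have h4 : b' = l := Fin.ext (by have := b'.2; rw [Fin.le_def] at h2; omega)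
    rw [h4] at h3
    exact (T.interior hz hl hm a' l).2 h3
  by_cases hact : ∃ v, Act e he CY (pat F (ZD m)) v
  · obtain ⟨v, A⟩ := hact
    exact caseB hz hl T.ne hrow0 hcoll T.comm A
  · obtain ⟨b1, hzb, hbl, ⟨hzb', c1, hc1⟩, hCY, hMb, v, A⟩ := T.row_act hz hl
    have hol : o < l := by rw [Fin.lt_def]; omega
    have hb2 : (b1 : ℕ) + 2 < m := by
      rw [Fin.lt_def] at hbl
      by_contra h
      exact hact ((T.corner_row hz hl (by omega) hzb').2 ⟨c1, hc1⟩)
    refine caseC hz hl T.ne hrow0 hcoll hb2 (fun a ha h c => ?_) A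
    by_contra hcon
    exact hact ((T.corner_col hz hl ha h).2 ⟨c, hcon⟩)

end Cfsg.Agent.SylowL.StepTwo
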