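import Cfsg.Agent.SylowL.Lower

/-!
# Step 2 of the classification of the essential subgroups of `UT m q`: interface

`E = 1 + e` is an essential subgroup, `CY` is the subgroup of `E` centralised by the group `Y` of
automorphisms of `E` generated by the elements of odd order in the group generated by the involutions.
`Two e he CY` lists what is used of `E` in the case where `Y` centralises `Ω₁(Z(E))`;
`Act e he CY k v` describes the action on the section `Ω₁ Z(E / K)` for a normal subgroup
`K = 1 + k ≤ CY`.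
-/

set_option autoImplicit false

namespace Cfsg.Agent.SylowL.StepTwo

open Matrix
open scoped commutatorElement
open Cfsg.Agent.SylowL.Lev Cfsg.Agent.SylowL.UT Cfsg.Agent.SylowL.Pat
open Cfsg.Agent.SylowL.Series Cfsg.Agent.SylowL.Lower

variable {m : ℕ} {F : Type*} [Field F]

local notation "Mat" => Matrix (Fin m) (Fin m) F

/-- `1 + x` normalises `1 + e` (in a strong sense) and is an involution modulo `1 + e`. -/
structure Inv (e : Submodule F Mat) (x : Mat) : Prop where
  lev : x ∈ lev m F 1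
  notMem : x ∉ e
  sq : x * x ∈ e
  left : ∀ y ∈ e, x * y ∈ e
  right : ∀ y ∈ e, y * x ∈ e

/-- The Lie bracket with `x` as a linear map. -/
def ad (x : Mat) : Mat →ₗ[F] Mat := LinearMap.mulLeft F x - LinearMap.mulRight F x

@[simp] theorem ad_apply (x n : Mat) : ad x n = x * n - n * x := rfl

/-- Elements of `v` commuting with `x` modulo `k`. -/
def cen (k v : Submodule F Mat) (x : Mat) : Submodule F Mat := v ⊓ k.comap (ad x)

theorem mem_cen {k v : Submodule F Mat} {x n : Mat} :
    n ∈ cen k v x ↔ n ∈ v ∧ x * n - n * x ∈ k := Iff.rfl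

/-- The action on the section `V / K = Ω₁ Z(E / K)`, where `E = 1 + e`, `K = 1 + k`, `V = 1 + v`,
if `Y` acts nontrivially on this section. -/
structure Act (e : Submodule F Mat) (he : IsAlg e) (CY : Subgroup (UT m F))
    (k v : Submodule F Mat) : Prop where
  mem_e : ∀ x, x ∈ e ↔ x ∈ lev m F 1 ∧ ∀ n ∈ v, n * x - x * n ∈ k
  mem_v : ∀ n, n ∈ v ↔ n ∈ lev m F 1 ∧ n * n ∈ k ∧ ∀ x ∈ e, n * x - x * n ∈ k
  wy : ∀ x (hx : Inv e x), ∃ g : UT m F, N g ∈ v ∧ (∀ c ∈ CY, c * g = g * c) ∧
    mk x hx.lev * g * (mk x hx.lev)⁻¹ * g⁻¹ ∉ CY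
  p3 : ∀ x y, Inv e x → Inv e y →
    Module.finrank F (cen k v x) = Module.finrank F (cen k v y)
  p4 : ∀ r : Submodule F Mat, e ≤ r → r ≤ lev m F 1 → (∀ x ∈ r, ∀ y ∈ r, x * y ∈ e) →
    ∀ x, Inv e x →
      Module.finrank F r + Module.finrank F (cen k v x) ≤ Module.finrank F v + Module.finrank F e
  a8 : ∀ x (hx : Inv e x) (l : ℕ),
    (∀ g ∈ (ofAlg e he).lowerCentralSeries l, N g ∈ v → x * N g - N g * x ∈ k) →
    (∀ g, N g ∈ v → ∃ h ∈ (ofAlg e he).lowerCentralSeries l, N h ∈ v ∧
      N (mk x hx.lev * g * (mk x hx.lev)⁻¹ * g⁻¹) - N h ∈ k) → False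

/-- The set `D` of positions is an ideal. -/
structure IsId (D : Fin m → Fin m → Prop) : Prop where
  lt : ∀ i j, D i j → i < j
  left : ∀ i j k : Fin m, i < j → D j k → D i k
  right : ∀ i j k : Fin m, D i j → j < k → D i k

/-- What is used in Step 2. -/
structure Two (e : Submodule F Mat) (he : IsAlg e) (CY : Subgroup (UT m F)) : Prop where
  ne : ¬ lev m F 1 ≤ e
  CY_le : CY ≤ ofAlg e he
  comm : ∀ x y, Inv e x → Inv e y → x * y - y * x ∈ e
  omega : ∀ w (hw : w ∈ lev m F 1), w * w = 0 → (∀ x ∈ e, w * x = x * w) → mk w hw ∈ CY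
  corner : ∀ D : Fin m → Fin m → Prop, IsId D → (∀ g : UT m F, N g ∈ pat F D → g ∈ CY) →
    ∀ a b (hab : a < b), (∀ a', a' < a → D a' b) → (∀ b', b < b' → D a b') →
      single a b (1 : F) ∈ e ∧ ((∃ c : F, root a b hab c ∉ CY) → ∃ v, Act e he CY (pat F D) v)
  row : ∀ i : Fin m, (i : ℕ) = 0 → ∃ j, ∃ h : i < j, ∃ c : F, root i j h c ∉ CY
  col : ∀ j : Fin m, (j : ℕ) + 1 = m → ∃ i, ∃ h : i < j, ∃ c : F, root i j h c ∉ CY

/-! ### Entries of products with matrix units -/

theorem single_mul_entry (i j a b : Fin m) (c : F) (n : Mat) :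
    (single i j c * n) a b = if a = i then c * n j b else 0 := by
  by_cases h : a = i
  · rw [if_pos h, h, single_mul_apply_same]
  · rw [if_neg h, single_mul_apply_of_ne (h := h)]

theorem mul_single_entry (i j a b : Fin m) (c : F) (n : Mat) :
    (n * single i j c) a b = if b = j then n a i * c else 0 := by
  by_cases h : b = j
  · rw [if_pos h, h, mul_single_apply_same]
  · rw [if_neg h, mul_single_apply_of_ne (hbj := h)]

theorem single_smul_one (i j : Fin m) (c : F) :
    (single i j c : Mat) = c • single i j (1 : F) := by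
  rw [smul_single, smul_eq_mul, mul_one]

theorem single_mem_of_one {e : Submodule F Mat} {i j : Fin m} (h : single i j (1 : F) ∈ e)
    (c : F) : single i j c ∈ e := by
  rw [single_smul_one]
  exact e.smul_mem c h

/-- A matrix supported on positions whose matrix units are in `e` is in `e`. -/
theorem mem_of_supp {e : Submodule F Mat} {x : Mat}
    (h : ∀ a b, x a b ≠ 0 → single a b (1 : F) ∈ e) : x ∈ e := by
  rw [matrix_eq_sum_single x]
  refine Submodule.sum_mem _ fun a _ => Submodule.sum_mem _ fun b _ => ?_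
  by_cases h0 : x a b = 0
  · rw [h0, single_zero]; exact zero_mem _
  · exact single_mem_of_one (h a b h0) _

theorem mem_pat' {D : Fin m → Fin m → Prop} {x : Mat} :
    x ∈ pat F D ↔ ∀ a b, ¬ D a b → x a b = 0 := by
  rw [mem_pat]
  refine forall_congr' fun a => forall_congr' fun b => ?_
  rw [not_imp_comm]

/-! ### Commutators of elements with special product -/

theorem comm_eq {x : Mat} (hx : x ∈ lev m F 1) {g : UT m F} {w : Mat} (hw : w ∈ lev m F 1)
    (h : x * N g - N g * x = w) (h1 : w * N g = 0) (h2 : w * x = 0) :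
    mk x hx * g * (mk x hx)⁻¹ * g⁻¹ = mk w hw := by
  have h3 : mk x hx * g = mk w hw * (g * mk x hx) := by
    apply N_injective
    rw [N_mul, N_mul, N_mul, N_mk, N_mk]
    have h4 : w * (N g + x + N g * x) = 0 := by
      rw [mul_add, mul_add, h1, h2, ← mul_assoc, h1, zero_mul, add_zero, add_zero]
    rw [h4, add_zero, ← h]
    abel
  rw [h3]
  group

end Cfsg.Agent.SylowL.StepTwo
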