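import Cfsg.Agent.SylowL.StepTwo.CaseB

/-!
# Step 2: the first row and the last column are contained in `e`
-/

set_option autoImplicit false

namespace Cfsg.Agent.SylowL.StepTwo

open Matrix
open scoped commutatorElement
open Cfsg.Agent.SylowL.Lev Cfsg.Agent.SylowL.UT Cfsg.Agent.SylowL.Pat
open Cfsg.Agent.SylowL.Series Cfsg.Agent.SylowL.Lower

variable {m : ℕ} {F : Type*} [Field F]

local notation "Mat" => Matrix (Fin m) (Fin m) F

variable {e : Submodule F (Matrix (Fin m) (Fin m) F)} {he : IsAlg e} {CY : Subgroup (UT m F)}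
  {v : Submodule F (Matrix (Fin m) (Fin m) F)}

/-- The positions `(0, x)` with `b < x`. -/
def KR (b : Fin m) : Fin m → Fin m → Prop := fun a x => (a : ℕ) = 0 ∧ (b : ℕ) < x

/-- The positions `(a, m - 1)` with `a < i`. -/
def KC (i : Fin m) : Fin m → Fin m → Prop := fun a x => (a : ℕ) < i ∧ (x : ℕ) + 1 = m

theorem isId_KR (b : Fin m) : IsId (KR b) where
  lt i j h := by rw [Fin.lt_def]; obtain ⟨h1, h2⟩ := h; omega
  left i j k h1 h2 := by rw [Fin.lt_def] at h1; obtain ⟨h3, h4⟩ := h2; omega
  right i j k h1 h2 := by rw [Fin.lt_def] at h2; obtain ⟨h3, h4⟩ := h1; exact ⟨h3, by omega⟩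

theorem isId_KC (i : Fin m) : IsId (KC i) where
  lt a x h := by
    have h3 := i.2
    rw [Fin.lt_def]; obtain ⟨h1, h2⟩ := h; omega
  left a b x h1 h2 := by rw [Fin.lt_def] at h1; obtain ⟨h3, h4⟩ := h2; exact ⟨by omega, h4⟩
  right a b x h1 h2 := by
    have h5 := x.2
    rw [Fin.lt_def] at h2; obtain ⟨h3, h4⟩ := h1; omega

theorem isId_ZD (hm : 2 ≤ m) : IsId (ZD m) where
  lt a x h := by rw [Fin.lt_def]; obtain ⟨h1, h2⟩ := h; omega
  left a b x h1 h2 := by rw [Fin.lt_def] at h1; obtain ⟨h3, h4⟩ := h2; omega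
  right a b x h1 h2 := by
    have h5 := x.2
    rw [Fin.lt_def] at h2; obtain ⟨h3, h4⟩ := h1; omega

theorem pat_le_CY {D : Fin m → Fin m → Prop} (hD : IsId D)
    (h : ∀ i j (hij : i < j) (c : F), D i j → root i j hij c ∈ CY) (g : UT m F)
    (hg : N g ∈ pat F D) : g ∈ CY :=
  mem_of_roots hD.lt (fun i j k h1 h2 => hD.left i j k (hD.lt i j h1) h2) CY
    (fun i j h' c => h i j _ c h') hg

theorem exists_last {P : Fin m → Prop} (h : ∃ b, P b) : ∃ b, P b ∧ ∀ b', b < b' → ¬ P b' := by
  classical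
  obtain ⟨b0, hb0⟩ := h
  obtain ⟨b, hb, hmax⟩ := (Finset.univ.filter P).exists_max_image id
    ⟨b0, Finset.mem_filter.2 ⟨Finset.mem_univ _, hb0⟩⟩
  refine ⟨b, (Finset.mem_filter.1 hb).2, fun b' h1 h2 => ?_⟩
  exact absurd (hmax b' (Finset.mem_filter.2 ⟨Finset.mem_univ _, h2⟩)) (not_le.2 h1)

theorem exists_first {P : Fin m → Prop} (h : ∃ b, P b) : ∃ b, P b ∧ ∀ b', b' < b → ¬ P b' := by
  classical
  obtain ⟨b0, hb0⟩ := h
  obtain ⟨b, hb, hmin⟩ := (Finset.univ.filter P).exists_min_image id
    ⟨b0, Finset.mem_filter.2 ⟨Finset.mem_univ _, hb0⟩⟩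
  refine ⟨b, (Finset.mem_filter.1 hb).2, fun b' h1 h2 => ?_⟩
  exact absurd (hmin b' (Finset.mem_filter.2 ⟨Finset.mem_univ _, h2⟩)) (not_le.2 h1)

namespace Two

variable (T : Two e he CY) {z l : Fin m} (hz : (z : ℕ) = 0) (hl : (l : ℕ) + 1 = m)

include T

theorem mem_of_root {i j : Fin m} {hij : i < j} (h : root i j hij (1 : F) ∈ CY) : Mem e i j := by
  have h1 := T.CY_le h
  rwa [mem_ofAlg, N_root] at h1

include hz hl

theorem root_zl (h : z < l) (c : F) : root z l h c ∈ CY := by
  have hlz : l ≠ z := h.ne'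
  refine T.omega _ _ (by rw [single_mul_single_of_ne (h := hlz)]) fun x hx => ?_
  ext a b
  rw [single_mul_entry, mul_single_entry, Lev.apply_eq_zero (he.le hx) (i := l) (j := b) (by omega),
    Lev.apply_eq_zero (he.le hx) (i := a) (j := z) (by omega), mul_zero, zero_mul, ite_self,
    ite_self]

theorem row_act : ∃ b1 : Fin m, z < b1 ∧ b1 < l ∧ (∃ h, ∃ c : F, root z b1 h c ∉ CY) ∧
    (∀ b, b1 < b → ∀ h, ∀ c : F, root z b h c ∈ CY) ∧ Mem e z b1 ∧
    ∃ v, Act e he CY (pat F (KR b1)) v := by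
  obtain ⟨b1, ⟨h1, c, hc⟩, h2⟩ := exists_last (P := fun b : Fin m => ∃ h : z < b, ∃ c : F,
    root z b h c ∉ CY) (T.row z hz)
  have h3 : ∀ b, b1 < b → ∀ h : z < b, ∀ c : F, root z b h c ∈ CY := by
    intro b hb h c
    by_contra h4
    exact h2 b hb ⟨h, c, h4⟩
  have h4 : b1 < l := by
    have h5 : b1 ≠ l := by
      rintro rfl
      exact hc (T.root_zl hz hl h1 c)
    have h6 : (b1 : ℕ) ≠ l := fun h => h5 (Fin.ext h)
    rw [Fin.lt_def]; omega
  obtain ⟨h5, h6⟩ := T.corner (KR b1) (isId_KR b1) (pat_le_CY (isId_KR b1) (by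
    intro i j hij c' hD
    have h7 : i = z := Fin.ext (by rw [hz]; exact hD.1)
    subst h7
    exact h3 j hD.2 hij c')) z b1 h1 (fun a' ha' => by rw [Fin.lt_def] at ha'; omega)
    (fun b' hb' => ⟨hz, hb'⟩)
  exact ⟨b1, h1, h4, ⟨h1, c, hc⟩, h3, h5, h6 ⟨c, hc⟩⟩

theorem col_act : ∃ a1 : Fin m, z < a1 ∧ a1 < l ∧ (∃ h, ∃ c : F, root a1 l h c ∉ CY) ∧
    (∀ a, a < a1 → ∀ h, ∀ c : F, root a l h c ∈ CY) ∧ Mem e a1 l ∧
    ∃ v, Act e he CY (pat F (KC a1)) v := by
  obtain ⟨a1, ⟨h1, c, hc⟩, h2⟩ := exists_first (P := fun a : Fin m => ∃ h : a < l, ∃ c : F,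
    root a l h c ∉ CY) (T.col l hl)
  have h3 : ∀ a, a < a1 → ∀ h : a < l, ∀ c : F, root a l h c ∈ CY := by
    intro b hb h c
    by_contra h4
    exact h2 b hb ⟨h, c, h4⟩
  have h4 : z < a1 := by
    have h5 : a1 ≠ z := by
      rintro rfl
      exact hc (T.root_zl hz hl h1 c)
    have h6 : (a1 : ℕ) ≠ z := fun h => h5 (Fin.ext h)
    rw [Fin.lt_def]; omega
  obtain ⟨h5, h6⟩ := T.corner (KC a1) (isId_KC a1) (pat_le_CY (isId_KC a1) (by
    intro i j hij c' hD
    have h7 : j = l := Fin.ext (by have := hD.2; omega)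
    subst h7
    exact h3 i hD.1 hij c')) a1 l h1 (fun a' ha' => ⟨ha', hl⟩)
    (fun b' hb' => by have := b'.2; rw [Fin.lt_def] at hb'; omega)
  exact ⟨a1, h4, h1, ⟨h1, c, hc⟩, h3, h5, h6 ⟨c, hc⟩⟩

theorem pat_ZD (g : UT m F) (hg : N g ∈ pat F (ZD m)) (hm : 2 ≤ m) : g ∈ CY :=
  pat_le_CY (isId_ZD hm) (by
    intro i j hij c' hD
    have h7 : i = z := Fin.ext (by rw [hz]; exact hD.1)
    have h8 : j = l := Fin.ext (by have := hD.2; omega)
    subst h7
    subst h8
    exact T.root_zl hz hl hij c') g hg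

theorem corner_row {l' : Fin m} (hl' : (l' : ℕ) + 2 = m) (hzl : z < l') :
    Mem e z l' ∧ ((∃ c : F, root z l' hzl c ∉ CY) → ∃ v, Act e he CY (pat F (ZD m)) v) :=
  T.corner (ZD m) (isId_ZD (by omega)) (fun g hg => T.pat_ZD hz hl g hg (by omega)) z l' hzl
    (fun a' ha' => by rw [Fin.lt_def] at ha'; omega)
    (fun b' hb' => ⟨hz, by have := b'.2; rw [Fin.lt_def] at hb'; omega⟩)

theorem corner_col {o : Fin m} (ho : (o : ℕ) = 1) (hol : o < l) :
    Mem e o l ∧ ((∃ c : F, root o l hol c ∉ CY) → ∃ v, Act e he CY (pat F (ZD m)) v) :=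
  T.corner (ZD m) (isId_ZD (by omega)) (fun g hg => T.pat_ZD hz hl g hg (by omega)) o l hol
    (fun a' ha' => ⟨by rw [Fin.lt_def] at ha'; omega, hl⟩)
    (fun b' hb' => by have := b'.2; rw [Fin.lt_def] at hb'; omega)

theorem exists_col {j : Fin m} (hM : Max e z j) : ∃ i, Max e i l := by
  by_contra hcon
  push Not at hcon
  have hcoll : ∀ a, a < l → Mem e a l := by
    intro a ha
    by_contra h
    obtain ⟨a', b', _, h2, h3⟩ := exists_max ha h
    have h4 : b' = l := Fin.ext (by have := b'.2; rw [Fin.le_def] at h2; omega)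
    rw [h4] at h3
    exact hcon a' h3
  obtain ⟨b1, hzb, hbl, -, hCY, hMb, v, A⟩ := T.row_act hz hl
  have hzj : (z : ℕ) < j := hM.lt
  rw [Fin.lt_def] at hzb hbl
  have hj : (j : ℕ) < b1 := by
    by_contra h
    rcases Nat.eq_or_lt_of_le (not_lt.1 h) with h1 | h1
    · have h2 : b1 = j := Fin.ext h1
      rw [h2] at hMb
      exact hM.notMem hMb
    · exact hM.notMem (T.mem_of_root (hCY j h1 hM.lt 1))
  apply hM.notMem
  refine A.of_single hM.lt fun n hn a x hD => ?_
  have h1 : (if x = j then n a z else 0) = 0 := by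
    rw [A.apply_eq_zero hn (i := a) (j := z) (by omega), ite_self]
  have h2 : (if a = z then n j x else 0) = 0 := by
    by_cases ha : a = z
    · rw [if_pos ha]
      have h3 : (x : ℕ) ≤ b1 := by
        by_contra h4
        exact hD ⟨by rw [ha]; exact hz, by omega⟩
      exact row_supp A hl hcoll hn (by unfold KR; simp only [not_and]; omega) (by omega)
    · rw [if_neg ha]
  rw [h1, h2]

theorem exists_row {i : Fin m} (hM : Max e i l) : ∃ j, Max e z j := by
  by_contra hcon
  push Not at hcon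
  have hrow : ∀ b, z < b → Mem e z b := by
    intro b hb
    by_contra h
    obtain ⟨a', b', h1, _, h3⟩ := exists_max hb h
    have h4 : a' = z := Fin.ext (by rw [Fin.le_def] at h1; omega)
    rw [h4] at h3
    exact hcon b' h3
  obtain ⟨a1, hza, hal, -, hCY, hMa, v, A⟩ := T.col_act hz hl
  have hil : (i : ℕ) < l := hM.lt
  rw [Fin.lt_def] at hza hal
  apply hM.notMem
  refine A.of_single hM.lt fun n hn a x hD => ?_
  have h1 : (if x = l then n a i else 0) = 0 := by
    by_cases hx : x = l
    · rw [if_pos hx]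
      have h3 : (a1 : ℕ) ≤ a := by
        by_contra h4
        exact hD ⟨by omega, by rw [hx]; exact hl⟩
      by_cases hai : i = a
      · rw [hai]; exact A.apply_eq_zero hn le_rfl
      · refine A.row_eq (hrow a (by rw [Fin.lt_def]; omega)) hn ?_ hai
        unfold KC
        simp only [not_and]
        omega
    · rw [if_neg hx]
  have h2 : (if a = i then n l x else 0) = 0 := by
    rw [A.apply_eq_zero hn (i := l) (j := x) (by omega), ite_self]
  rw [h1, h2]

/-- Step B. -/
theorem exists_j' {j o : Fin m} (hM : Max e z j) (ho : (o : ℕ) = 1) (hol : o < l) :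
    ∃ j', Max e o j' ∧ j < j' ∧ j' < l := by
  obtain ⟨b1, hzb, hbl, -, hCY, hMb, v, A⟩ := T.row_act hz hl
  have hzj : (z : ℕ) < j := hM.lt
  rw [Fin.lt_def] at hzb hbl
  by_cases hex : ∃ b, j < b ∧ ¬ Mem e o b
  · obtain ⟨b, hjb, hb⟩ := hex
    rw [Fin.lt_def] at hjb
    obtain ⟨a', j', h1, h2, h3⟩ := exists_max (by rw [Fin.lt_def]; omega) hb
    rw [Fin.le_def] at h1 h2
    have h4 : a' = o := by
      by_contra h4
      have h5 : (a' : ℕ) ≠ o := fun h => h4 (Fin.ext h)
      have h6 : a' = z := Fin.ext (by omega)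
      rw [h6] at h3
      have h7 := hM.eq_of_row h3 rfl
      rw [← h7] at h2
      omega
    rw [h4] at h3
    refine ⟨j', h3, by rw [Fin.lt_def]; omega, ?_⟩
    have h5 : j' ≠ l := by
      rintro rfl
      exact h3.notMem (T.corner_col hz hl ho hol).1
    have h6 : (j' : ℕ) ≠ l := fun h => h5 (Fin.ext h)
    rw [Fin.lt_def]; omega
  · exfalso
    push Not at hex
    have hrow : ∀ n ∈ v, ∀ b x : Fin m, (j : ℕ) < b → n b x = 0 := by
      intro n hn b x hb
      by_cases hxb : x = b
      · rw [hxb]; exact A.apply_eq_zero hn le_rfl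
      · refine A.row_eq (hex b hb) hn ?_ hxb
        unfold KR
        simp only [not_and]
        omega
    obtain ⟨g, hg, -, hgn⟩ := A.wy _ (hM.inv he)
    have hcolz : N g * single z j (1 : F) = 0 := by
      ext a b
      rw [mul_single_entry, A.apply_eq_zero hg (i := a) (j := z) (by omega), zero_mul, ite_self]
      rfl
    have hw : single z j (1 : F) * N g ∈ lev m F 1 :=
      lev_anti (by omega) (mul_mem_lev (hM.inv he).lev (N_mem g))
    have hwz : single z j (1 : F) * N g * single z j (1 : F) = 0 := by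
      rw [mul_assoc, hcolz, mul_zero]
    apply hgn
    rw [comm_eq (hM.inv he).lev hw (by rw [hcolz, sub_zero]) (by
      rw [mul_assoc]
      ext a b
      rw [single_mul_entry, mem_pat'.1 ((A.mem_v _).1 hg).2.1 j b (by
        unfold KR; simp only [not_and]; omega), mul_zero, ite_self]
      rfl) hwz]
    refine T.omega _ hw (by rw [← mul_assoc, hwz, zero_mul]) fun x hx => ?_
    have h1 : x * (single z j (1 : F) * N g) = 0 := by
      rw [← mul_assoc]
      have h2 : x * single z j (1 : F) = 0 := by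
        ext a b
        rw [mul_single_entry, Lev.apply_eq_zero (he.le hx) (i := a) (j := z) (by omega), zero_mul,
          ite_self]
        rfl
      rw [h2, zero_mul]
    have h2 : single z j (1 : F) * N g * x = 0 := by
      rw [mul_assoc]
      ext a b
      rw [single_mul_entry, A.br hx hg (a := j) (b := b) (by
        unfold KR; simp only [not_and]; omega)]
      have h3 : (x * N g) j b = 0 := by
        rw [Matrix.mul_apply]
        refine Finset.sum_eq_zero fun c _ => ?_
        by_cases hc : (j : ℕ) < c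
        · rw [hrow _ hg c b hc, mul_zero]
        · rw [Lev.apply_eq_zero (he.le hx) (i := j) (j := c) (by omega), zero_mul]
      rw [h3, mul_zero, ite_self]
      rfl
    rw [h1, h2]

/-- Step C and D. -/
theorem z_active {j j' o : Fin m} (hM : Max e z j) (ho : (o : ℕ) = 1) (hol : o < l)
    (hM' : Max e o j') (hjj : j < j') (hj'l : j' < l) : ∃ v, Act e he CY (pat F (ZD m)) v := by
  obtain ⟨b1, hzb, hbl, ⟨hzb', c1, hc1⟩, hCY, hMb, v, A⟩ := T.row_act hz hl
  have hzj : (z : ℕ) < j := hM.lt
  have hoj' : (o : ℕ) < j' := hM'.lt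
  rw [Fin.lt_def] at hzb hbl hjj hj'l
  have hj'o : j' ≠ o := fun h => by rw [h] at hoj'; omega
  have hzj' : z < j' := by rw [Fin.lt_def]; omega
  -- Step C
  have hj'b : (j' : ℕ) ≤ b1 := by
    by_contra hcon
    have hcon' : b1 < j' := by rw [Fin.lt_def]; omega
    obtain ⟨g, hg, hgc, hgn⟩ := A.wy _ (hM'.inv he)
    have h4 := (commute_root_iff hzj' (one_ne_zero (α := F))).1 (hgc _ (hCY j' hcon' hzj' 1)).symm
    apply hgn
    have h5 := comm_eq (x := single o j' (1 : F)) (hM'.inv he).lev (g := g)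
        (w := single z j' (-(N g z o))) (single_mem_lev (by omega) _) (by
          ext a b
          rw [Matrix.sub_apply, single_mul_entry, mul_single_entry, h4.2, mul_zero, ite_self,
            zero_sub]
          by_cases h : b = j'
          · rw [if_pos h, mul_one, h]
            by_cases h2 : (a : ℕ) = 0
            · have h3 : a = z := Fin.ext (by omega)
              rw [h3, single_apply_same]
            · rw [A.apply_eq_zero hg (i := a) (j := o) (by omega), neg_zero,
                single_apply_of_row_ne]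
              intro h3
              rw [← h3] at h2
              exact h2 hz
          · rw [if_neg h, neg_zero, single_apply_of_col_ne]
            exact fun h3 => h h3.symm)
        (by
          ext a b
          rw [single_mul_entry, h4.2, mul_zero, ite_self]
          rfl)
        (by rw [single_mul_single_of_ne (h := hj'o)])
    rw [h5]
    exact hCY j' hcon' hzj' _
  by_cases hj2 : (j' : ℕ) + 2 = m
  · have h1 : b1 = j' := Fin.ext (by omega)
    subst h1
    exact (T.corner_row hz hl hj2 hzb').2 ⟨c1, hc1⟩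
  · obtain ⟨a1, hza, hal, ⟨hal', c2, hc2⟩, -, hMa, v', A'⟩ := T.col_act hz hl
    rw [Fin.lt_def] at hza hal
    have ha1 : a1 = o := by
      by_contra hne
      have hne' : (a1 : ℕ) ≠ o := fun h => hne (Fin.ext h)
      obtain ⟨q, hq⟩ : ∃ q : Fin m, (q : ℕ) = j' + 1 := ⟨⟨j' + 1, by omega⟩, rfl⟩
      have hzo : z ≠ o := fun h => by rw [h] at hz; omega
      apply hM'.notMem
      refine A'.of_single hM'.lt fun n hn a x hD => ?_
      have h1 : (if x = j' then n a o else 0) = 0 := by
        by_cases hx : x = j'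
        · rw [if_pos hx]
          by_cases ha : (a : ℕ) = 0
          · have h3 : a = z := Fin.ext (by omega)
            rw [h3]
            refine A'.col_eq (i := o) (j := q)
              (hM'.mem_of_lt le_rfl (by omega) (Or.inr (by omega))) hn ?_ hzo
            unfold KC
            simp only [not_and]
            omega
          · exact A'.apply_eq_zero hn (by omega)
        · rw [if_neg hx]
      have h2 : (if a = o then n j' x else 0) = 0 := by
        by_cases ha : a = o
        · rw [if_pos ha]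
          have hx : (x : ℕ) + 1 ≠ m := fun h => hD ⟨by rw [ha]; omega, h⟩
          by_cases hxj : x = j'
          · rw [hxj]; exact A'.apply_eq_zero hn le_rfl
          · refine A'.row_eq (i := z) (j := j')
              (hM.mem_of_lt le_rfl (by omega) (Or.inr (by omega))) hn ?_ hxj
            unfold KC
            simp only [not_and]
            omega
        · rw [if_neg ha]
      rw [h1, h2]
    subst ha1
    exact (T.corner_col hz hl ho hal').2 ⟨c2, hc2⟩

end Two

end Cfsg.Agent.SylowL.StepTwo
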