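import Cfsg.Agent.SylowL.StepTwo.CaseC

/-!
# Step 2: the case where `Y` acts nontrivially on `Ω₁ Z(E / Z)`
-/

set_option autoImplicit false

namespace Cfsg.Agent.SylowL.StepTwo

open Matrix
open scoped commutatorElement
open Cfsg.Agent.SylowL.Lev Cfsg.Agent.SylowL.UT Cfsg.Agent.SylowL.Pat
open Cfsg.Agent.SylowL.Series Cfsg.Agent.SylowL.Lower

variable {m : ℕ} {F : Type*} [Field F]

local notation "Mat" => Matrix (Fin m) (Fin m) F

variable {e : Submodule F (Matrix (Fin m) (Fin m) F)} {he : IsAlg e} {CY : Subgroup (UT m F)}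
  {v : Submodule F (Matrix (Fin m) (Fin m) F)}

/-- The position `(0, m - 1)`. -/
def ZD (m : ℕ) : Fin m → Fin m → Prop := fun a x => (a : ℕ) = 0 ∧ (x : ℕ) + 1 = m

theorem mem_of_bracket (A : Act e he CY (pat F (ZD m)) v) {i j z l : Fin m} (hz : (z : ℕ) = 0)
    (hl : (l : ℕ) + 1 = m) (hij : (i : ℕ) < j) (hi : 1 ≤ (i : ℕ)) (hj : (j : ℕ) + 1 < m)
    (hcl : ∀ n ∈ v, ∀ a x : Fin m, 1 ≤ (a : ℕ) → (x : ℕ) + 1 < m → n a x = 0)
    (h1 : ∀ n ∈ v, n z i = 0) (h2 : ∀ n ∈ v, n j l = 0) : Mem e i j := by
  refine A.of_single hij fun n hn a x hD => ?_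
  have h3 : (if x = j then n a i else 0) = 0 := by
    by_cases hx : x = j
    · rw [if_pos hx]
      by_cases ha : 1 ≤ (a : ℕ)
      · exact hcl n hn a i ha (by omega)
      · have h3 : a = z := Fin.ext (by omega)
        rw [h3]; exact h1 n hn
    · rw [if_neg hx]
  have h4 : (if a = i then n j x else 0) = 0 := by
    by_cases ha : a = i
    · rw [if_pos ha]
      by_cases hx : (x : ℕ) + 1 < m
      · exact hcl n hn j x (by omega) hx
      · have h3 : x = l := Fin.ext (by omega)
        rw [h3]; exact h2 n hn
    · rw [if_neg ha]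
  rw [h3, h4]

/-- All `n_(j, l)` vanish. -/
theorem caseBeta {z l i j : Fin m} (hz : (z : ℕ) = 0) (hl : (l : ℕ) + 1 = m)
    (A : Act e he CY (pat F (ZD m)) v)
    (hcl : ∀ n ∈ v, ∀ a x : Fin m, 1 ≤ (a : ℕ) → (x : ℕ) + 1 < m → n a x = 0)
    (hint : ∀ i j, Max e i j → 1 ≤ (i : ℕ) ∧ (j : ℕ) + 1 < m)
    (hF2 : ∀ i j, Max e i j → (j : ℕ) + 2 < m → ∀ n ∈ v, n z i = 0)
    (hM : Max e i j) (hj : (j : ℕ) + 2 = m) (hnj : ∀ n ∈ v, n j l = 0) : Concl e := by
  have hij : (i : ℕ) < j := hM.lt
  obtain ⟨hi1, hj1⟩ := hint i j hM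
  have hji : j ≠ i := fun h => by rw [h] at hij; omega
  have hzi : z ≠ i := fun h => by rw [h] at hz; omega
  have hlj : l ≠ j := fun h => by rw [h] at hl; omega
  have hnj' : ∀ n ∈ v, ∀ x, n j x = 0 := by
    intro n hn x
    by_cases hx : (x : ℕ) + 1 < m
    · exact hcl n hn j x (by omega) hx
    · have h3 : x = l := Fin.ext (by omega)
      rw [h3]; exact hnj n hn
  have hInv := hM.inv he
  -- rank one
  have hr : Module.finrank F v ≤ Module.finrank F
      (cen (pat F (ZD m)) v (single i j (1 : F))) + 1 := by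
    refine finrank_le_cen (fun _ : Fin 1 => (z, i)) fun y hy hy0 => ?_
    have hy1 : y z i = 0 := hy0 0
    refine mem_pat'.2 fun a b _ => ?_
    rw [Matrix.sub_apply, single_mul_entry, mul_single_entry, hnj' y hy, mul_zero, ite_self,
      zero_sub, neg_eq_zero]
    by_cases h : b = j
    · rw [if_pos h, mul_one]
      by_cases h2 : (a : ℕ) = 0
      · have h3 : a = z := Fin.ext (by omega)
        rw [h3, hy1]
      · exact hcl y hy a i (by omega) (by omega)
    · rw [if_neg h]
  have hu : ∀ a b, Max e a b → a = i ∧ b = j := by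
    intro a b hab
    by_contra hne
    have hbj : b ≠ j := fun h => hne ⟨hab.eq_of_col hM h, h⟩
    have hbj' : (b : ℕ) ≠ j := fun h => hbj (Fin.ext h)
    obtain ⟨ha1, hb1⟩ := hint a b hab
    have hab' : (a : ℕ) < b := hab.lt
    have hja : j ≠ a := fun h => by rw [← h] at hab'; omega
    have hla : l ≠ b := fun h => by rw [← h] at hb1; omega
    obtain ⟨c, hc⟩ := exists_comb A (x := single i j (1 : F)) (y := single a b (1 : F)) hInv hInv
      (single_mem_lev (by omega) _) (hab.inv he).left (hab.inv he).right (hab.inv he).sq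
      (by rw [single_mul_single_of_ne (h := hja)]; exact zero_mem _)
      (by
        by_cases h : b = i
        · subst h
          rw [single_mul_single_same, mul_one]
          exact hM.mem_of_lt (by omega) le_rfl (Or.inl (by omega))
        · rw [single_mul_single_of_ne (h := h)]; exact zero_mem _) hr
    apply hab.notMem
    refine mem_of_bracket A hz hl hab' ha1 hb1 hcl (hF2 a b hab (by omega)) fun n hn => ?_
    have h1 := A.br hc hn (a := a) (b := l) (by unfold ZD; simp only [not_and]; omega)
    rw [mul_add, add_mul, Matrix.add_apply, Matrix.add_apply, mul_smul_comm, smul_mul_assoc,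
      Matrix.smul_apply, Matrix.smul_apply, single_mul_entry, single_mul_entry, mul_single_entry,
      mul_single_entry, if_neg hla, if_neg hlj, if_pos rfl, hnj n hn] at h1
    simpa using h1.symm
  refine conclude he hM hu ?_
  have hD : (fun a x : Fin m => (a : ℕ) = 0 ∧ (j : ℕ) < x) = ZD m := by
    funext a x
    have h2 := x.2
    apply propext
    unfold ZD
    constructor
    · rintro ⟨h, h'⟩; exact ⟨h, by omega⟩
    · rintro ⟨h, h'⟩; exact ⟨h, by omega⟩
  exact endRow hz (v := v) (CY := CY) (he := he) (by rw [hD]; exact A) hM hi1 hj1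
    (fun a x hax h => eq_of_unique hu hax h) hnj' hcl

/-- All `n_(0, 1)` vanish. -/
theorem caseAlpha {z l i j : Fin m} (hz : (z : ℕ) = 0) (hl : (l : ℕ) + 1 = m)
    (A : Act e he CY (pat F (ZD m)) v)
    (hcl : ∀ n ∈ v, ∀ a x : Fin m, 1 ≤ (a : ℕ) → (x : ℕ) + 1 < m → n a x = 0)
    (hint : ∀ i j, Max e i j → 1 ≤ (i : ℕ) ∧ (j : ℕ) + 1 < m)
    (hF1 : ∀ i j, Max e i j → 2 ≤ (i : ℕ) → ∀ n ∈ v, n j l = 0)
    (hM : Max e i j) (hi : (i : ℕ) = 1) (hni : ∀ n ∈ v, n z i = 0) : Concl e := by
  have hij : (i : ℕ) < j := hM.lt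
  obtain ⟨hi1, hj1⟩ := hint i j hM
  have hji : j ≠ i := fun h => by rw [h] at hij; omega
  have hzi : z ≠ i := fun h => by rw [h] at hz; omega
  have hlj : l ≠ j := fun h => by rw [h] at hl; omega
  have hni' : ∀ n ∈ v, ∀ a, n a i = 0 := by
    intro n hn a
    by_cases ha : 1 ≤ (a : ℕ)
    · exact hcl n hn a i (by omega) (by omega)
    · have h3 : a = z := Fin.ext (by omega)
      rw [h3]; exact hni n hn
  have hInv := hM.inv he
  -- rank one
  have hr : Module.finrank F v ≤ Module.finrank F
      (cen (pat F (ZD m)) v (single i j (1 : F))) + 1 := by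
    refine finrank_le_cen (fun _ : Fin 1 => (j, l)) fun y hy hy0 => ?_
    have hy1 : y j l = 0 := hy0 0
    refine mem_pat'.2 fun a b _ => ?_
    rw [Matrix.sub_apply, single_mul_entry, mul_single_entry, hni' y hy, zero_mul, ite_self,
      sub_zero]
    by_cases h : a = i
    · rw [if_pos h, one_mul]
      by_cases h2 : (b : ℕ) + 1 < m
      · exact hcl y hy j b (by omega) h2
      · have h3 : b = l := Fin.ext (by omega)
        rw [h3, hy1]
    · rw [if_neg h]
  have hu : ∀ a b, Max e a b → a = i ∧ b = j := by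
    intro a b hab
    by_contra hne
    have hai : a ≠ i := fun h => hne ⟨h, (hM.eq_of_row hab h.symm).symm⟩
    have hai' : (a : ℕ) ≠ i := fun h => hai (Fin.ext h)
    obtain ⟨ha1, hb1⟩ := hint a b hab
    have hab' : (a : ℕ) < b := hab.lt
    have hbi : b ≠ i := fun h => by rw [h] at hab'; omega
    have hza : z ≠ a := fun h => by rw [← h] at ha1; omega
    obtain ⟨c, hc⟩ := exists_comb A (x := single i j (1 : F)) (y := single a b (1 : F)) hInv hInv
      (single_mem_lev (by omega) _) (hab.inv he).left (hab.inv he).right (hab.inv he).sq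
      (by
        by_cases h : j = a
        · subst h
          rw [single_mul_single_same, mul_one]
          exact hM.mem_of_lt le_rfl (by omega) (Or.inr (by omega))
        · rw [single_mul_single_of_ne (h := h)]; exact zero_mem _)
      (by rw [single_mul_single_of_ne (h := hbi)]; exact zero_mem _) hr
    apply hab.notMem
    refine mem_of_bracket A hz hl hab' ha1 hb1 hcl (fun n hn => ?_) (hF1 a b hab (by omega))
    have h1 := A.br hc hn (a := z) (b := b) (by unfold ZD; simp only [not_and]; omega)
    rw [mul_add, add_mul, Matrix.add_apply, Matrix.add_apply, mul_smul_comm, smul_mul_assoc,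
      Matrix.smul_apply, Matrix.smul_apply, single_mul_entry, single_mul_entry, mul_single_entry,
      mul_single_entry, if_neg hza, if_neg hzi, if_pos rfl, hni n hn] at h1
    simpa using h1
  refine conclude he hM hu ?_
  have hD : (fun a x : Fin m => (a : ℕ) < i ∧ (x : ℕ) + 1 = m) = ZD m := by
    funext a x
    apply propext
    unfold ZD
    constructor
    · rintro ⟨h, h'⟩; exact ⟨by omega, h'⟩
    · rintro ⟨h, h'⟩; exact ⟨by omega, h'⟩
  exact endCol hl (v := v) (CY := CY) (he := he) (by rw [hD]; exact A) hM hi1 hj1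
    (fun a x hax h => eq_of_unique hu hax h) hni' hcl

theorem inv_of {i j : Fin m} (hij : (i : ℕ) < j) (h0 : ∀ x ∈ e, x i j = 0)
    (hl : ∀ y ∈ e, ∀ b, y j b ≠ 0 → Mem e i b) (hr : ∀ y ∈ e, ∀ a, y a i ≠ 0 → Mem e a j) :
    Inv e (single i j (1 : F)) := by
  have hji : j ≠ i := fun h => by rw [h] at hij; omega
  refine ⟨single_mem_lev (by omega) _, fun h => ?_, ?_, fun y hy => ?_, fun y hy => ?_⟩
  · have h1 := h0 _ h
    rw [single_apply_same] at h1
    exact one_ne_zero h1
  · rw [single_mul_single_of_ne (h := hji)]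
    exact zero_mem _
  · refine mem_of_supp fun a b hab => ?_
    rw [single_mul_entry] at hab
    by_cases ha : a = i
    · rw [if_pos ha, one_mul] at hab
      rw [ha]
      exact hl y hy b hab
    · rw [if_neg ha] at hab
      exact absurd rfl hab
  · refine mem_of_supp fun a b hab => ?_
    rw [mul_single_entry] at hab
    by_cases hb : b = j
    · rw [if_pos hb, mul_one] at hab
      rw [hb]
      exact hr y hy a hab
    · rw [if_neg hb] at hab
      exact absurd rfl hab

/-- The remaining case. -/
theorem caseGamma {z l i j : Fin m} (hz : (z : ℕ) = 0) (hl : (l : ℕ) + 1 = m)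
    (A : Act e he CY (pat F (ZD m)) v)
    (hrow0 : ∀ b, z < b → Mem e z b) (hcoll : ∀ a, a < l → Mem e a l)
    (hcomm : ∀ x y, Inv e x → Inv e y → x * y - y * x ∈ e)
    (hcl : ∀ n ∈ v, ∀ a x : Fin m, 1 ≤ (a : ℕ) → (x : ℕ) + 1 < m → n a x = 0)
    (hM : Max e i j) (hi : (i : ℕ) = 1) (hj : (j : ℕ) + 2 = m)
    (h1 : ∃ n ∈ v, n z i ≠ 0) (h2 : ∃ n ∈ v, n j l ≠ 0) : Concl e := by
  obtain ⟨n1, hn1, hn1i⟩ := h1
  obtain ⟨n2, hn2, hn2j⟩ := h2
  have hij : (i : ℕ) < j := hM.lt
  by_cases hm : m = 4
  · refine ⟨i, j, by omega, final he (by omega) hM.notMem fun a b hab hne => ?_⟩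
    have hab' : (a : ℕ) < b := hab
    have h3 : (a : ℕ) ≠ i ∨ (b : ℕ) ≠ j := by
      rcases hne with h | h
      · left; exact fun h' => h (Fin.ext h')
      · right; exact fun h' => h (Fin.ext h')
    by_cases ha : (a : ℕ) = 0
    · have h4 : a = z := Fin.ext (by omega)
      rw [h4]
      exact hrow0 b (by rw [Fin.lt_def]; omega)
    · have h4 : b = l := Fin.ext (by omega)
      rw [h4]
      exact hcoll a (by rw [Fin.lt_def]; omega)
  have hm5 : 5 ≤ m := by omega
  obtain ⟨p, hp⟩ : ∃ p : Fin m, (p : ℕ) + 3 = m := ⟨⟨m - 3, by omega⟩, by simp only; omega⟩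
  obtain ⟨q, hq⟩ : ∃ q : Fin m, (q : ℕ) = 2 := ⟨⟨2, by omega⟩, rfl⟩
  have hji : j ≠ i := fun h => by rw [h] at hj; omega
  have hqi : q ≠ i := fun h => by rw [h] at hq; omega
  have hqj : q ≠ j := fun h => by rw [h] at hq; omega
  have hpi : p ≠ i := fun h => by rw [h] at hp; omega
  have hpj : p ≠ j := fun h => by rw [h] at hp; omega
  have hzi : z ≠ i := fun h => by rw [h] at hz; omega
  have hzj : z ≠ j := fun h => by rw [h] at hz; omega
  have hzq : z ≠ q := fun h => by rw [h] at hz; omega
  have hlj : l ≠ j := fun h => by rw [h] at hl; omega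
  have hlp : l ≠ p := fun h => by rw [h] at hl; omega
  have hx1 : ∀ x ∈ e, x p j = 0 := by
    intro x hx
    have h1 := A.br hx hn2 (a := p) (b := l) (by unfold ZD; simp only [not_and]; omega)
    have h2 : (n2 * x) p l = 0 := by
      rw [Matrix.mul_apply]
      refine Finset.sum_eq_zero fun b _ => ?_
      by_cases hb : (b : ℕ) + 1 < m
      · rw [hcl n2 hn2 p b (by omega) hb, zero_mul]
      · rw [Lev.apply_eq_zero (he.le hx) (i := b) (j := l) (by omega), mul_zero]
    have h3 : (x * n2) p l = x p j * n2 j l := by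
      rw [Matrix.mul_apply]
      refine Finset.sum_eq_single j (fun b _ hb => ?_) (fun h => absurd (Finset.mem_univ _) h)
      have hb' : (b : ℕ) ≠ j := fun h => hb (Fin.ext h)
      by_cases h4 : (j : ℕ) < b
      · rw [A.apply_eq_zero hn2 (i := b) (j := l) (by omega), mul_zero]
      · rw [Lev.apply_eq_zero (he.le hx) (i := p) (j := b) (by omega), zero_mul]
    rw [h2, h3] at h1
    exact (mul_eq_zero.1 h1.symm).resolve_right hn2j
  have hx2 : ∀ x ∈ e, x i q = 0 := by
    intro x hx
    have h1 := A.br hx hn1 (a := z) (b := q) (by unfold ZD; simp only [not_and]; omega)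
    have h2 : (x * n1) z q = 0 := by
      rw [Matrix.mul_apply]
      refine Finset.sum_eq_zero fun b _ => ?_
      by_cases hb : (b : ℕ) = 0
      · rw [Lev.apply_eq_zero (he.le hx) (i := z) (j := b) (by omega), zero_mul]
      · rw [hcl n1 hn1 b q (by omega) (by omega), mul_zero]
    have h3 : (n1 * x) z q = n1 z i * x i q := by
      rw [Matrix.mul_apply]
      refine Finset.sum_eq_single i (fun b _ hb => ?_) (fun h => absurd (Finset.mem_univ _) h)
      have hb' : (b : ℕ) ≠ i := fun h => hb (Fin.ext h)
      by_cases h4 : (b : ℕ) < i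
      · rw [A.apply_eq_zero hn1 (by omega), zero_mul]
      · rw [Lev.apply_eq_zero (he.le hx) (i := b) (j := q) (by omega), mul_zero]
    rw [h2, h3] at h1
    exact (mul_eq_zero.1 h1).resolve_left hn1i
  have hx1' : ∀ x ∈ e, ∀ b, x p b ≠ 0 → b = l := by
    intro x hx b hb
    have h3 := mem_lt he.le hx hb
    by_contra h4
    have h5 : (b : ℕ) ≠ l := fun h => h4 (Fin.ext h)
    have h6 : b = j := Fin.ext (by omega)
    rw [h6] at hb
    exact hb (hx1 x hx)
  have hx2' : ∀ x ∈ e, ∀ a, x a q ≠ 0 → a = z := by
    intro x hx a ha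
    have h3 := mem_lt he.le hx ha
    by_contra h4
    have h5 : (a : ℕ) ≠ z := fun h => h4 (Fin.ext h)
    have h6 : a = i := Fin.ext (by omega)
    rw [h6] at ha
    exact ha (hx2 x hx)
  have hxj : ∀ x ∈ e, ∀ b, x j b ≠ 0 → b = l := by
    intro x hx b hb
    have h3 := mem_lt he.le hx hb
    exact Fin.ext (by omega)
  have hxi : ∀ x ∈ e, ∀ a, x a i ≠ 0 → a = z := by
    intro x hx a ha
    have h3 := mem_lt he.le hx ha
    exact Fin.ext (by omega)
  by_cases hm' : m = 5
  · exfalso
    have hpq : p = q := Fin.ext (by omega)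
    have hI1 : Inv e (single i q (1 : F)) := by
      refine inv_of (by omega) hx2 (fun y hy b hb => ?_) (fun y hy a ha => ?_)
      · rw [hx1' y hy b (by rw [hpq]; exact hb)]
        exact hcoll i (by rw [Fin.lt_def]; omega)
      · rw [hxi y hy a ha]
        exact hrow0 q (by rw [Fin.lt_def]; omega)
    have hI2 : Inv e (single q j (1 : F)) := by
      refine inv_of (by omega) (by rw [← hpq]; exact hx1) (fun y hy b hb => ?_)
        (fun y hy a ha => ?_)
      · rw [hxj y hy b hb]
        exact hcoll q (by rw [Fin.lt_def]; omega)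
      · rw [hx2' y hy a ha]
        exact hrow0 j (by rw [Fin.lt_def]; omega)
    have h3 := hcomm _ _ hI1 hI2
    rw [single_mul_single_same, single_mul_single_of_ne (h := hji), sub_zero, one_mul] at h3
    exact hM.notMem h3
  · exfalso
    have hpq : p ≠ q := fun h => by rw [h] at hp; omega
    have hInv := hM.inv he
    have hr : Module.finrank F v ≤ Module.finrank F
        (cen (pat F (ZD m)) v (single i j (1 : F))) + 2 := by
      refine finrank_le_cen ![(z, i), (j, l)] fun y hy hy0 => ?_
      have hy1 : y z i = 0 := hy0 0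
      have hy2 : y j l = 0 := hy0 1
      refine mem_pat'.2 fun a b _ => ?_
      have h3 : (if b = j then y a i * 1 else 0) = 0 := by
        by_cases hx : b = j
        · rw [if_pos hx, mul_one]
          by_cases ha : 1 ≤ (a : ℕ)
          · exact hcl y hy a i ha (by omega)
          · have h3 : a = z := Fin.ext (by omega)
            rw [h3]; exact hy1
        · rw [if_neg hx]
      have h4 : (if a = i then 1 * y j b else 0) = 0 := by
        by_cases ha : a = i
        · rw [if_pos ha, one_mul]
          by_cases hx : (b : ℕ) + 1 < m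
          · exact hcl y hy j b (by omega) hx
          · have h3 : b = l := Fin.ext (by omega)
            rw [h3]; exact hy2
        · rw [if_neg ha]
      rw [Matrix.sub_apply, single_mul_entry, mul_single_entry, h3, h4, sub_zero]
    have h := A.family (n := 3) ![single i j (1 : F), single q j (1 : F), single i p (1 : F)]
      ?_ ?_ ?_ ?_ ?_ hInv
    · omega
    · intro s
      fin_cases s
      · exact single_mem_lev (by omega) _
      · exact single_mem_lev (by omega) _
      · exact single_mem_lev (by omega) _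
    · intro s
      fin_cases s
      · exact hInv.left
      · intro y hy
        refine mem_of_supp fun a b hab => ?_
        rw [show (![single i j (1 : F), single q j (1 : F), single i p (1 : F)] : Fin 3 → Mat)
          ((fun i => i) ⟨1, by omega⟩) = single q j (1 : F) from rfl, single_mul_entry] at hab
        by_cases ha : a = q
        · rw [if_pos ha, one_mul] at hab
          rw [ha, hxj y hy b hab]
          exact hcoll q (by rw [Fin.lt_def]; omega)
        · rw [if_neg ha] at hab
          exact absurd rfl hab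
      · intro y hy
        refine mem_of_supp fun a b hab => ?_
        rw [show (![single i j (1 : F), single q j (1 : F), single i p (1 : F)] : Fin 3 → Mat)
          ((fun i => i) ⟨2, by omega⟩) = single i p (1 : F) from rfl, single_mul_entry] at hab
        by_cases ha : a = i
        · rw [if_pos ha, one_mul] at hab
          rw [ha, hx1' y hy b hab]
          exact hcoll i (by rw [Fin.lt_def]; omega)
        · rw [if_neg ha] at hab
          exact absurd rfl hab
    · intro s
      fin_cases s
      · exact hInv.right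
      · intro y hy
        refine mem_of_supp fun a b hab => ?_
        rw [show (![single i j (1 : F), single q j (1 : F), single i p (1 : F)] : Fin 3 → Mat)
          ((fun i => i) ⟨1, by omega⟩) = single q j (1 : F) from rfl, mul_single_entry] at hab
        by_cases hb : b = j
        · rw [if_pos hb, mul_one] at hab
          rw [hb, hx2' y hy a hab]
          exact hrow0 j (by rw [Fin.lt_def]; omega)
        · rw [if_neg hb] at hab
          exact absurd rfl hab
      · intro y hy
        refine mem_of_supp fun a b hab => ?_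
        rw [show (![single i j (1 : F), single q j (1 : F), single i p (1 : F)] : Fin 3 → Mat)
          ((fun i => i) ⟨2, by omega⟩) = single i p (1 : F) from rfl, mul_single_entry] at hab
        by_cases hb : b = p
        · rw [if_pos hb, mul_one] at hab
          rw [hb, hxi y hy a hab]
          exact hrow0 p (by rw [Fin.lt_def]; omega)
        · rw [if_neg hb] at hab
          exact absurd rfl hab
    · have e1 : (single i j (1 : F) : Mat) * single i j (1 : F) = 0 :=
        single_mul_single_of_ne (h := hji) ..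
      have e2 : (single i j (1 : F) : Mat) * single q j (1 : F) = 0 :=
        single_mul_single_of_ne (h := hqj.symm) ..
      have e3 : (single i j (1 : F) : Mat) * single i p (1 : F) = 0 :=
        single_mul_single_of_ne (h := hji) ..
      have e4 : (single q j (1 : F) : Mat) * single i j (1 : F) = 0 :=
        single_mul_single_of_ne (h := hji) ..
      have e5 : (single q j (1 : F) : Mat) * single q j (1 : F) = 0 :=
        single_mul_single_of_ne (h := hqj.symm) ..
      have e6 : (single q j (1 : F) : Mat) * single i p (1 : F) = 0 :=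
        single_mul_single_of_ne (h := hji) ..
      have e7 : (single i p (1 : F) : Mat) * single i j (1 : F) = 0 :=
        single_mul_single_of_ne (h := hpi) ..
      have e8 : (single i p (1 : F) : Mat) * single q j (1 : F) = 0 :=
        single_mul_single_of_ne (h := hpq) ..
      have e9 : (single i p (1 : F) : Mat) * single i p (1 : F) = 0 :=
        single_mul_single_of_ne (h := hpi) ..
      intro s t
      fin_cases s <;> fin_cases t
      · exact e1 ▸ zero_mem e
      · exact e2 ▸ zero_mem e
      · exact e3 ▸ zero_mem e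
      · exact e4 ▸ zero_mem e
      · exact e5 ▸ zero_mem e
      · exact e6 ▸ zero_mem e
      · exact e7 ▸ zero_mem e
      · exact e8 ▸ zero_mem e
      · exact e9 ▸ zero_mem e
    · intro c hc
      have hc' : c 0 • single i j (1 : F) + c 1 • single q j (1 : F) + c 2 • single i p (1 : F)
          ∈ e := by
        simpa [Fin.sum_univ_three] using hc
      have hc1 : c 1 = 0 := by
        have h3 := A.br hc' hn2 (a := q) (b := l) (by unfold ZD; simp only [not_and]; omega)
        simp only [mul_add, add_mul, Matrix.add_apply, mul_smul_comm, smul_mul_assoc,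
          Matrix.smul_apply, single_mul_entry, mul_single_entry, if_neg hlj, if_neg hlp,
          if_neg hqi, if_pos, smul_eq_mul, mul_zero, zero_add, add_zero, one_mul] at h3
        exact (mul_eq_zero.1 h3.symm).resolve_right hn2j
      have hc2 : c 2 = 0 := by
        have h3 := A.br hc' hn1 (a := z) (b := p) (by unfold ZD; simp only [not_and]; omega)
        simp only [mul_add, add_mul, Matrix.add_apply, mul_smul_comm, smul_mul_assoc,
          Matrix.smul_apply, single_mul_entry, mul_single_entry, if_neg hzi, if_neg hzq,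
          if_neg hpj, if_pos, smul_eq_mul, mul_zero, zero_add, add_zero, mul_one] at h3
        exact (mul_eq_zero.1 h3).resolve_right hn1i
      have hc0 : c 0 = 0 := by
        by_contra h0
        apply hM.notMem
        rw [hc1, hc2, zero_smul, zero_smul, add_zero, add_zero] at hc'
        have h4 := e.smul_mem (c 0)⁻¹ hc'
        rwa [smul_smul, inv_mul_cancel₀ h0, one_smul] at h4
      funext s
      fin_cases s
      · exact hc0
      · exact hc1
      · exact hc2

theorem caseB {z l : Fin m} (hz : (z : ℕ) = 0) (hl : (l : ℕ) + 1 = m)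
    (hne : ¬ lev m F 1 ≤ e)
    (hrow0 : ∀ b, z < b → Mem e z b) (hcoll : ∀ a, a < l → Mem e a l)
    (hcomm : ∀ x y, Inv e x → Inv e y → x * y - y * x ∈ e)
    (A : Act e he CY (pat F (ZD m)) v) : Concl e := by
  have hcl : ∀ n ∈ v, ∀ a x : Fin m, 1 ≤ (a : ℕ) → (x : ℕ) + 1 < m → n a x = 0 := by
    intro n hn a x ha hx
    exact row_supp A hl hcoll hn (by unfold ZD; simp only [not_and]; omega) hx
  have hint : ∀ i j, Max e i j → 1 ≤ (i : ℕ) ∧ (j : ℕ) + 1 < m := by
    intro i j hM
    have hij : (i : ℕ) < j := hM.lt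
    constructor
    · by_contra h
      apply hM.notMem
      have h1 : i = z := Fin.ext (by omega)
      rw [h1]
      exact hrow0 j (by rw [Fin.lt_def]; omega)
    · by_contra h
      apply hM.notMem
      have h1 : j = l := Fin.ext (by omega)
      rw [h1]
      exact hcoll i (by rw [Fin.lt_def]; omega)
  have hF1 : ∀ i j, Max e i j → 2 ≤ (i : ℕ) → ∀ n ∈ v, n j l = 0 := by
    intro i j hM hi n hn
    have hij : (i : ℕ) < j := hM.lt
    obtain ⟨h1, h2⟩ := hint i j hM
    obtain ⟨p, hp⟩ : ∃ p : Fin m, (p : ℕ) + 1 = i := ⟨⟨i - 1, by omega⟩, by simp only; omega⟩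
    refine A.row_eq (i := p) (j := j) (hM.mem_of_lt (by omega) le_rfl (Or.inl (by omega))) hn ?_ ?_
    · unfold ZD; simp only [not_and]; omega
    · intro h; rw [h] at hl; omega
  have hF2 : ∀ i j, Max e i j → (j : ℕ) + 2 < m → ∀ n ∈ v, n z i = 0 := by
    intro i j hM hj n hn
    have hij : (i : ℕ) < j := hM.lt
    obtain ⟨h1, h2⟩ := hint i j hM
    obtain ⟨q, hq⟩ : ∃ q : Fin m, (q : ℕ) = j + 1 := ⟨⟨j + 1, by omega⟩, rfl⟩
    refine A.col_eq (i := i) (j := q) (hM.mem_of_lt le_rfl (by omega) (Or.inr (by omega))) hn ?_ ?_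
    · unfold ZD; simp only [not_and]; omega
    · intro h; rw [h] at hz; omega
  obtain ⟨i, j, hM⟩ := exists_max_of_ne hne
  have hij : (i : ℕ) < j := hM.lt
  obtain ⟨hi, hj⟩ := hint i j hM
  by_cases hi2 : 2 ≤ (i : ℕ)
  · have hj2 : (j : ℕ) + 2 = m := by
      by_contra h
      exact hM.notMem (mem_of_bracket A hz hl hij hi hj hcl (hF2 i j hM (by omega)) (hF1 i j hM hi2))
    exact caseBeta hz hl A hcl hint hF2 hM hj2 (hF1 i j hM hi2)
  · have hi1 : (i : ℕ) = 1 := by omega
    by_cases h1 : ∀ n ∈ v, n z i = 0
    · exact caseAlpha hz hl A hcl hint hF1 hM hi1 h1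
    · have hj2 : (j : ℕ) + 2 = m := by
        by_contra h
        exact h1 (hF2 i j hM (by omega))
      by_cases h2 : ∀ n ∈ v, n j l = 0
      · exact caseBeta hz hl A hcl hint hF2 hM hj2 h2
      · push Not at h1 h2
        exact caseGamma hz hl A hrow0 hcoll hcomm hcl hM hi1 hj2 h1 h2

end Cfsg.Agent.SylowL.StepTwo
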