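import Cfsg.Agent.SylowL.StepTwo.Ends

/-!
# Step 2: the case where `Y` is trivial on `Ω₁ Z(E / Z)`
-/

set_option autoImplicit false

namespace Cfsg.Agent.SylowL.StepTwo

open Matrix
open scoped commutatorElement
open Cfsg.Agent.SylowL.Lev Cfsg.Agent.SylowL.UT Cfsg.Agent.SylowL.Pat
open Cfsg.Agent.SylowL.Series Cfsg.Agent.SylowL.Lower

variable {m : ℕ} {F : Type*} [Field F]

local notation "Mat" => Matrix (Fin m) (Fin m) F

variable {e : Submodule F (Matrix (Fin m) (Fin m) F)} {he : IsAlg e} {CY : Subgroup (UT m F)}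
  {v : Submodule F (Matrix (Fin m) (Fin m) F)}

/-- The conclusion of Step 2. -/
def Concl (e : Submodule F (Matrix (Fin m) (Fin m) F)) : Prop :=
  ∃ i j : Fin m, (i : ℕ) + 1 = j ∧ ∀ x, x ∈ e ↔ x ∈ lev m F 1 ∧ x i j = 0

theorem Max.eq_of_row {i j a b : Fin m} (h : Max e i j) (h' : Max e a b) (hia : i = a) : j = b := by
  subst hia
  by_contra hne
  have hne' : (j : ℕ) ≠ b := fun h => hne (Fin.ext h)
  rcases Nat.lt_or_ge j b with h1 | h1
  · exact h'.notMem (h.mem_of_lt le_rfl h1.le (Or.inr h1))
  · exact h.notMem (h'.mem_of_lt le_rfl h1 (Or.inr (by omega)))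

theorem Max.eq_of_col {i j a b : Fin m} (h : Max e i j) (h' : Max e a b) (hjb : j = b) : i = a := by
  subst hjb
  by_contra hne
  have hne' : (i : ℕ) ≠ a := fun h => hne (Fin.ext h)
  rcases Nat.lt_or_ge i a with h1 | h1
  · exact h.notMem (h'.mem_of_lt h1.le le_rfl (Or.inl h1))
  · exact h'.notMem (h.mem_of_lt h1 le_rfl (Or.inl (by omega)))

theorem conclude (he : IsAlg e) {i j : Fin m} (hM : Max e i j)
    (hu : ∀ a b, Max e a b → a = i ∧ b = j) (h : (i : ℕ) + 1 = j) : Concl e := by
  refine ⟨i, j, h, final he h hM.notMem fun a b hab hne => eq_of_unique hu hab ?_⟩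
  have h1 : (a : ℕ) < b := hab
  have h2 : (a : ℕ) ≠ i ∨ (b : ℕ) ≠ j := by
    rcases hne with h | h
    · left; exact fun h' => h (Fin.ext h')
    · right; exact fun h' => h (Fin.ext h')
  omega

theorem exists_max_of_ne (he : ¬ lev m F 1 ≤ e) : ∃ i j, Max e i j := by
  have h : ∃ i j : Fin m, i < j ∧ ¬ Mem e i j := by
    by_contra hcon
    push Not at hcon
    apply he
    intro x hx
    refine mem_of_supp fun a b hab => hcon a b ?_
    rw [Fin.lt_def]
    exact hx a b hab
  obtain ⟨i, j, h1, h2⟩ := h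
  obtain ⟨a, b, _, _, h3⟩ := exists_max h1 h2
  exact ⟨a, b, h3⟩

/-- Rows other than the first of elements of `v` are supported in the last column, if the last
column is in `e`. -/
theorem row_supp {D : Fin m → Fin m → Prop} (A : Act e he CY (pat F D) v) {l : Fin m}
    (hl : (l : ℕ) + 1 = m) (hcoll : ∀ a, a < l → Mem e a l) {n : Mat} (hn : n ∈ v) {a x : Fin m}
    (hD : ¬ D a l) (hx : (x : ℕ) + 1 < m) : n a x = 0 := by
  by_cases h : a = x
  · rw [h]
    exact A.apply_eq_zero hn le_rfl
  · exact A.col_eq (hcoll x (by rw [Fin.lt_def]; omega)) hn hD h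

theorem caseC {z l b1 : Fin m} (hz : (z : ℕ) = 0) (hl : (l : ℕ) + 1 = m)
    (hne : ¬ lev m F 1 ≤ e)
    (hrow0 : ∀ b, z < b → Mem e z b) (hcoll : ∀ a, a < l → Mem e a l)
    (hb1 : (b1 : ℕ) + 2 < m)
    (h1l : ∀ a : Fin m, (a : ℕ) = 1 → ∀ (h : a < l) (c : F), root a l h c ∈ CY)
    (A : Act e he CY (pat F fun a x : Fin m => (a : ℕ) = 0 ∧ (b1 : ℕ) < x) v) : Concl e := by
  have hcl : ∀ n ∈ v, ∀ a x : Fin m, 1 ≤ (a : ℕ) → (x : ℕ) + 1 < m → n a x = 0 := by
    intro n hn a x ha hx
    exact row_supp A hl hcoll hn (by simp only [not_and]; omega) hx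
  have hint : ∀ i j, Max e i j → 1 ≤ (i : ℕ) ∧ (j : ℕ) + 1 < m := by
    intro i j hM
    have hij : (i : ℕ) < j := hM.lt
    constructor
    · by_contra h
      apply hM.notMem
      have h1 : i = z := Fin.ext (by omega)
      rw [h1]
      exact hrow0 j (by rw [Fin.lt_def]; omega)
    · by_contra h
      apply hM.notMem
      have h1 : j = l := Fin.ext (by omega)
      rw [h1]
      exact hcoll i (by rw [Fin.lt_def]; omega)
  have hi2 : ∀ i j, Max e i j → 2 ≤ (i : ℕ) := by
    intro i j hM
    obtain ⟨h1, h2⟩ := hint i j hM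
    have hij : (i : ℕ) < j := hM.lt
    by_contra h3
    have hi : (i : ℕ) = 1 := by omega
    have hli : l ≠ i := fun h => by rw [h] at hl; omega
    obtain ⟨g, hg, hgc, hgn⟩ := A.wy _ (hM.inv he)
    have hil : i < l := by rw [Fin.lt_def]; omega
    have h4 := (commute_root_iff hil (one_ne_zero (α := F))).1 (hgc _ (h1l i hi hil 1)).symm
    apply hgn
    have h5 := comm_eq (x := single i j (1 : F)) (hM.inv he).lev (g := g)
        (w := single i l (N g j l)) (single_mem_lev (by omega) _) (by
          ext a b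
          rw [Matrix.sub_apply, single_mul_entry, mul_single_entry, h4.1, zero_mul, ite_self,
            sub_zero]
          by_cases h : a = i
          · rw [if_pos h, one_mul, h]
            by_cases h2 : (b : ℕ) + 1 < m
            · rw [hcl _ hg j b (by omega) h2, single_apply_of_col_ne]
              intro h3
              rw [← h3] at h2
              omega
            · have h3 : b = l := Fin.ext (by omega)
              rw [h3, single_apply_same]
          · rw [if_neg h, single_apply_of_row_ne]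
            exact fun h3 => h h3.symm)
        (by
          ext a b
          rw [single_mul_entry, A.apply_eq_zero hg (i := l) (j := b) (by omega), mul_zero,
            ite_self]
          rfl)
        (by rw [single_mul_single_of_ne (h := hli)])
    rw [h5]
    exact h1l i hi hil _
  have hnj : ∀ i j, Max e i j → ∀ n ∈ v, ∀ x, n j x = 0 := by
    intro i j hM n hn x
    obtain ⟨h1, h2⟩ := hint i j hM
    have h3 := hi2 i j hM
    have hij : (i : ℕ) < j := hM.lt
    by_cases hx : (x : ℕ) + 1 < m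
    · exact hcl n hn j x (by omega) hx
    · obtain ⟨p, hp⟩ : ∃ p : Fin m, (p : ℕ) + 1 = i := ⟨⟨i - 1, by omega⟩, by simp only; omega⟩
      refine A.row_eq (i := p) (j := j) (hM.mem_of_lt (by omega) le_rfl (Or.inl (by omega))) hn ?_ ?_
      · simp only [not_and]; omega
      · intro h; rw [h] at hx; omega
  have hjb : ∀ i j, Max e i j → j = b1 := by
    intro i j hM
    obtain ⟨h1, h2⟩ := hint i j hM
    have hij : (i : ℕ) < j := hM.lt
    have key : ¬ ∀ n ∈ v, ∀ a : Fin m, ¬ ((a : ℕ) = 0 ∧ (b1 : ℕ) < j) → n a i = 0 := by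
      intro hcon
      apply hM.notMem
      refine A.of_single hij fun n hn a x hD => ?_
      rw [hnj i j hM n hn, ite_self]
      by_cases hx : x = j
      · rw [if_pos hx]
        rw [hx] at hD
        exact hcon n hn a hD
      · rw [if_neg hx]
    by_contra hne'
    have hne2 : (j : ℕ) ≠ b1 := fun h => hne' (Fin.ext h)
    apply key
    intro n hn a hD
    by_cases ha : 1 ≤ (a : ℕ)
    · exact hcl n hn a i ha (by omega)
    · obtain ⟨q, hq⟩ : ∃ q : Fin m, (q : ℕ) = j + 1 := ⟨⟨j + 1, by omega⟩, rfl⟩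
      refine A.col_eq (i := i) (j := q) (hM.mem_of_lt le_rfl (by omega) (Or.inr (by omega))) hn ?_ ?_
      · simp only [not_and]; omega
      · intro h; rw [h] at ha; omega
  obtain ⟨i, j, hM⟩ := exists_max_of_ne hne
  have hj := hjb i j hM
  subst hj
  have hu : ∀ a b, Max e a b → a = i ∧ b = j := by
    intro a b hab
    have h1 := hjb a b hab
    exact ⟨hab.eq_of_col hM h1, h1⟩
  exact conclude he hM hu (endRow hz A hM (by have := hi2 i j hM; omega) (hint i j hM).2
    (fun a x hax h => eq_of_unique hu hax h) (hnj i j hM) hcl)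

end Cfsg.Agent.SylowL.StepTwo
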