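import Cfsg.Agent.SylowL.StepTwo.Tools

/-!
# Step 2: the two end configurations
-/

set_option autoImplicit false

namespace Cfsg.Agent.SylowL.StepTwo

open Matrix
open scoped commutatorElement
open Cfsg.Agent.SylowL.Lev Cfsg.Agent.SylowL.UT Cfsg.Agent.SylowL.Pat
open Cfsg.Agent.SylowL.Series Cfsg.Agent.SylowL.Lower

variable {m : ℕ} {F : Type*} [Field F]

local notation "Mat" => Matrix (Fin m) (Fin m) F

variable {e : Submodule F (Matrix (Fin m) (Fin m) F)} {he : IsAlg e} {CY : Subgroup (UT m F)}
  {v : Submodule F (Matrix (Fin m) (Fin m) F)}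

theorem lev_of_lcs {g : UT m F} {n : ℕ} (hg : g ∈ (ofAlg e he).lowerCentralSeries n) :
    N g ∈ lev m F (n + 1) :=
  (mem_lowerCentralSeries_iff n g).1 (Subgroup.lowerCentralSeries_mono n le_top hg)

theorem root_mem {i j : Fin m} (h : Mem e i j) (hij : i < j) (c : F) :
    root i j hij c ∈ ofAlg e he := by
  rw [mem_ofAlg, N_root]
  exact single_mem_of_one h c

/-- Two involutions fail to be independent. -/
theorem exists_comb {k : Submodule F Mat} (A : Act e he CY k v) {x y z : Mat} (hz : Inv e z)
    (hx : Inv e x) (hy : y ∈ lev m F 1) (hyl : ∀ a ∈ e, y * a ∈ e) (hyr : ∀ a ∈ e, a * y ∈ e)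
    (hyy : y * y ∈ e) (hxy : x * y ∈ e) (hyx : y * x ∈ e)
    (hr : Module.finrank F v ≤ Module.finrank F (cen k v z) + 1) :
    ∃ c : F, y + c • x ∈ e := by
  by_contra hcon
  push Not at hcon
  have h := A.family (n := 2) ![x, y] ?_ ?_ ?_ ?_ ?_ hz
  · omega
  · intro s
    fin_cases s
    · exact hx.lev
    · exact hy
  · intro s
    fin_cases s
    · exact hx.left
    · exact hyl
  · intro s
    fin_cases s
    · exact hx.right
    · exact hyr
  · intro s t
    fin_cases s <;> fin_cases t
    · exact hx.sq
    · exact hxy
    · exact hyx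
    · exact hyy
  · intro c hc
    simp only [Fin.sum_univ_two, Matrix.cons_val_zero, Matrix.cons_val_one] at hc
    have h1 : c 1 = 0 := by
      by_contra h1
      apply hcon ((c 1)⁻¹ * c 0)
      have h2 := e.smul_mem (c 1)⁻¹ hc
      rwa [smul_add, smul_smul, smul_smul, inv_mul_cancel₀ h1, one_smul, add_comm] at h2
    rw [h1, zero_smul, add_zero] at hc
    have h0 : c 0 = 0 := by
      by_contra h0
      apply hx.notMem
      have h2 := e.smul_mem (c 0)⁻¹ hc
      rwa [smul_smul, inv_mul_cancel₀ h0, one_smul] at h2
    funext s
    fin_cases s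
    · exact h0
    · exact h1

/-- The end configuration in the rows. -/
theorem endRow {i j z : Fin m} (hz : (z : ℕ) = 0)
    (A : Act e he CY (pat F fun a x : Fin m => (a : ℕ) = 0 ∧ (j : ℕ) < x) v)
    (hM : Max e i j) (hi : 1 ≤ (i : ℕ)) (hj : (j : ℕ) + 1 < m)
    (hmiss : ∀ a x : Fin m, a < x → ((a : ℕ) < i ∨ (j : ℕ) < x) → Mem e a x)
    (hnj : ∀ n ∈ v, ∀ x, n j x = 0)
    (hrow : ∀ n ∈ v, ∀ a x : Fin m, 1 ≤ (a : ℕ) → (x : ℕ) + 1 < m → n a x = 0) :
    (i : ℕ) + 1 = j := by
  have hij : (i : ℕ) < j := hM.lt
  by_contra hne
  have hlt : (i : ℕ) + 1 < j := by omega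
  obtain ⟨p, hp⟩ : ∃ p : Fin m, (p : ℕ) = i + 1 := ⟨⟨i + 1, by omega⟩, rfl⟩
  have hzi : z ≠ i := fun h => by rw [h] at hz; omega
  have hzj : z ≠ j := fun h => by rw [h] at hz; omega
  have hpj : p ≠ j := fun h => by rw [h] at hp; omega
  have hpi : p ≠ i := fun h => by rw [h] at hp; omega
  have hji : j ≠ i := fun h => by rw [h] at hij; omega
  -- a vector with nonzero entry at `(0, i)`
  obtain ⟨n0, hn0, hn0i⟩ : ∃ n ∈ v, n z i ≠ 0 := by
    by_contra hcon
    push Not at hcon
    apply hM.notMem
    refine A.of_single hij fun n hn a x hD => ?_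
    have h1 : (if a = i then n j x else 0) = 0 := by
      by_cases h : a = i
      · rw [if_pos h, hnj n hn]
      · rw [if_neg h]
    rw [h1]
    by_cases h : x = j
    · rw [if_pos h]
      by_cases h2 : (a : ℕ) = 0
      · have h3 : a = z := Fin.ext (by omega)
        rw [h3]
        exact hcon n hn
      · exact hrow n hn a i (by omega) (by omega)
    · rw [if_neg h]
  have h0a : ∀ n ∈ v, ∀ a : Fin m, 1 ≤ (a : ℕ) → (a : ℕ) < i → n z a = 0 := by
    intro n hn a ha1 ha2
    refine A.col_eq (hmiss a j (by rw [Fin.lt_def]; omega) (Or.inl ha2)) hn ?_ ?_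
    · simp only [not_and]; omega
    · intro h; rw [← h] at ha1; omega
  have hx0 : ∀ x ∈ e, x i p = 0 := by
    intro x hx
    have h1 := A.br hx hn0 (a := z) (b := p) (by simp only [not_and]; omega)
    have h2 : (x * n0) z p = 0 := by
      rw [Matrix.mul_apply]
      refine Finset.sum_eq_zero fun b _ => ?_
      by_cases hb : (b : ℕ) = 0
      · rw [Lev.apply_eq_zero (he.le hx) (by omega), zero_mul]
      · rw [hrow n0 hn0 b p (by omega) (by omega), mul_zero]
    have h3 : (n0 * x) z p = n0 z i * x i p := by
      rw [Matrix.mul_apply]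
      refine Finset.sum_eq_single i (fun b _ hb => ?_) (fun h => absurd (Finset.mem_univ _) h)
      have hb' : (b : ℕ) ≠ i := fun h => hb (Fin.ext h)
      by_cases h4 : (b : ℕ) < i
      · by_cases h5 : (b : ℕ) = 0
        · rw [A.apply_eq_zero hn0 (by omega), zero_mul]
        · rw [h0a n0 hn0 b (by omega) h4, zero_mul]
      · rw [Lev.apply_eq_zero (he.le hx) (i := b) (j := p) (by omega), mul_zero]
    rw [h2, h3] at h1
    exact (mul_eq_zero.1 h1).resolve_left hn0i
  have hInv := hM.inv he
  -- rank one
  have hr : Module.finrank F v ≤ Module.finrank F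
      (cen (pat F fun a x : Fin m => (a : ℕ) = 0 ∧ (j : ℕ) < x) v (single i j (1 : F))) + 1 := by
    refine finrank_le_cen (fun _ : Fin 1 => (z, i)) fun y hy hy0 => ?_
    have hy1 : y z i = 0 := hy0 0
    refine mem_pat'.2 fun a b _ => ?_
    rw [Matrix.sub_apply, single_mul_entry, mul_single_entry, hnj y hy, mul_zero, ite_self,
      zero_sub, neg_eq_zero]
    by_cases h : b = j
    · rw [if_pos h, mul_one]
      by_cases h2 : (a : ℕ) = 0
      · have h3 : a = z := Fin.ext (by omega)
        rw [h3, hy1]
      · exact hrow y hy a i (by omega) (by omega)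
    · rw [if_neg h]
  obtain ⟨c', hc'⟩ := exists_comb A (x := single i j (1 : F)) (y := single p j (1 : F)) hInv hInv
    (single_mem_lev (by omega) _)
    (fun y hy => by
      refine mem_of_supp fun a b hab => ?_
      rw [single_mul_entry] at hab
      by_cases ha : a = p
      · rw [if_pos ha, one_mul] at hab
        have h1 := mem_lt he.le hy hab
        rw [ha]
        exact hmiss p b (by rw [Fin.lt_def]; omega) (Or.inr h1)
      · rw [if_neg ha] at hab
        exact absurd rfl hab)
    (fun y hy => by
      refine mem_of_supp fun a b hab => ?_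
      rw [mul_single_entry] at hab
      by_cases hb : b = j
      · rw [if_pos hb, mul_one] at hab
        have h1 := mem_lt he.le hy hab
        rw [hb]
        refine hmiss a j (by rw [Fin.lt_def]; omega) (Or.inl ?_)
        by_contra h2
        have h3 : a = i := Fin.ext (by omega)
        rw [h3, hx0 y hy] at hab
        exact hab rfl
      · rw [if_neg hb] at hab
        exact absurd rfl hab)
    (by rw [single_mul_single_of_ne (h := hpj.symm)]; exact zero_mem _)
    (by rw [single_mul_single_of_ne (h := hpj.symm)]; exact zero_mem _)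
    (by rw [single_mul_single_of_ne (h := hji)]; exact zero_mem _) hr
  set y1 : Mat := single p j (1 : F) + c' • single i j (1 : F) with hy1
  -- root elements in the lower central series
  have hser : ∀ s : ℕ, ∀ a : Fin m, (a : ℕ) + s + 1 = i → ∀ haj : a < j, ∀ c : F,
      root a j haj c ∈ (ofAlg e he).lowerCentralSeries (s + 1) := by
    intro s
    induction s with
    | zero =>
      intro a ha haj c
      have hap : a < p := by rw [Fin.lt_def]; omega
      have hMa : Mem e a p := hmiss a p hap (Or.inl (by omega))
      have haj' : j ≠ a := haj.ne'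
      have hcy : c • y1 ∈ e := e.smul_mem _ hc'
      have hsub : (c • y1 : Mat) = single p j c + single i j (c * c') := by
        rw [hy1, smul_add, smul_smul, ← single_smul_one, ← single_smul_one]
      have h1 := comm_eq (x := single a p (1 : F)) (single_mem_lev (by omega) _)
        (g := mk (c • y1) (he.le hcy)) (w := single a j c) (single_mem_lev (by omega) _) (by
          rw [N_mk, hsub, mul_add, add_mul, single_mul_single_same, one_mul,
            single_mul_single_of_ne (h := hpi), single_mul_single_of_ne (h := haj'),
            single_mul_single_of_ne (h := haj'), add_zero, add_zero, sub_zero])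
        (by
          rw [N_mk, hsub, mul_add, single_mul_single_of_ne (h := hpj.symm),
            single_mul_single_of_ne (h := hji), add_zero])
        (by rw [single_mul_single_of_ne (h := haj')])
      have h2 : root a j haj c = mk (single a j c) (single_mem_lev (by omega) _) := rfl
      rw [h2, ← h1, Subgroup.lowerCentralSeries_succ, Subgroup.lowerCentralSeries_zero]
      refine Subgroup.commutator_mem_commutator ?_ ?_
      · rw [mem_ofAlg, N_mk]; exact hMa
      · rw [mem_ofAlg, N_mk]; exact hcy
    | succ s ih =>
      intro a ha haj c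
      obtain ⟨b, hb⟩ : ∃ b : Fin m, (b : ℕ) = a + 1 := ⟨⟨a + 1, by omega⟩, rfl⟩
      have hab : a < b := by rw [Fin.lt_def]; omega
      have hbj : b < j := by rw [Fin.lt_def]; omega
      have h1 := ih b (by omega) hbj 1
      rw [← lev_one_comm_root hab hbj c, Subgroup.lowerCentralSeries_succ,
        Subgroup.commutator_comm]
      exact Subgroup.commutator_mem_commutator
        (root_mem (hmiss a b hab (Or.inl (by omega))) hab c) h1
  refine A.a8 (single i j (1 : F)) hInv i ?_ ?_
  · intro g hg hgv
    refine mem_pat'.2 fun a b _ => ?_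
    rw [Matrix.sub_apply, single_mul_entry, mul_single_entry, hnj _ hgv, mul_zero, ite_self,
      zero_sub, neg_eq_zero]
    by_cases h : b = j
    · rw [if_pos h, mul_one]
      by_cases h2 : (a : ℕ) = 0
      · exact Lev.apply_eq_zero (lev_of_lcs hg) (by omega)
      · exact hrow _ hgv a i (by omega) (by omega)
    · rw [if_neg h]
  · intro g hg
    have hzj' : z < j := by rw [Fin.lt_def]; omega
    refine ⟨root z j hzj' (-(N g z i)), ?_, ?_, ?_⟩
    · have h1 := hser (i - 1) z (by omega) hzj' (-(N g z i))
      rwa [Nat.sub_add_cancel hi] at h1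
    · rw [N_root]
      refine (A.mem_v _).2 ⟨single_mem_lev (by omega) _, ?_, fun x hx => mem_pat'.2 fun a b hD => ?_⟩
      · rw [single_mul_single_of_ne (h := hzj.symm)]
        exact zero_mem _
      · rw [Matrix.sub_apply, single_mul_entry, mul_single_entry]
        have h1 : x a z = 0 := Lev.apply_eq_zero (he.le hx) (by omega)
        rw [h1, zero_mul, ite_self, sub_zero]
        by_cases ha : a = z
        · rw [if_pos ha]
          have h2 : x j b = 0 := by
            refine Lev.apply_eq_zero (he.le hx) ?_
            by_contra h3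
            apply hD
            rw [ha]
            exact ⟨hz, by omega⟩
          rw [h2, mul_zero]
        · rw [if_neg ha]
    · have h1 := comm_eq (x := single i j (1 : F)) hInv.lev (g := g)
        (w := single z j (-(N g z i))) (single_mem_lev (by omega) _) (by
          ext a b
          rw [Matrix.sub_apply, single_mul_entry, mul_single_entry, hnj _ hg, mul_zero, ite_self,
            zero_sub]
          by_cases h : b = j
          · rw [if_pos h, mul_one, h]
            by_cases h2 : (a : ℕ) = 0
            · have h3 : a = z := Fin.ext (by omega)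
              rw [h3, single_apply_same]
            · rw [hrow _ hg a i (by omega) (by omega), neg_zero, single_apply_of_row_ne]
              intro h3
              rw [← h3] at h2
              exact h2 hz
          · rw [if_neg h, neg_zero, single_apply_of_col_ne]
            exact fun h3 => h h3.symm)
        (by
          ext a b
          rw [single_mul_entry, hnj _ hg, mul_zero, ite_self]
          rfl)
        (by rw [single_mul_single_of_ne (h := hji)])
      rw [h1, N_mk, N_root, sub_self]
      exact zero_mem _

/-- The end configuration in the columns. -/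
theorem endCol {i j l : Fin m} (hl : (l : ℕ) + 1 = m)
    (A : Act e he CY (pat F fun a x : Fin m => (a : ℕ) < i ∧ (x : ℕ) + 1 = m) v)
    (hM : Max e i j) (hi : 1 ≤ (i : ℕ)) (hj : (j : ℕ) + 1 < m)
    (hmiss : ∀ a x : Fin m, a < x → ((a : ℕ) < i ∨ (j : ℕ) < x) → Mem e a x)
    (hni : ∀ n ∈ v, ∀ a, n a i = 0)
    (hrow : ∀ n ∈ v, ∀ a x : Fin m, 1 ≤ (a : ℕ) → (x : ℕ) + 1 < m → n a x = 0) :
    (i : ℕ) + 1 = j := by
  have hij : (i : ℕ) < j := hM.lt
  by_contra hne
  have hlt : (i : ℕ) + 1 < j := by omega
  obtain ⟨p, hp⟩ : ∃ p : Fin m, (p : ℕ) + 1 = j := ⟨⟨j - 1, by omega⟩, by simp only; omega⟩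
  obtain ⟨q, hq⟩ : ∃ q : Fin m, (q : ℕ) = j + 1 := ⟨⟨j + 1, by omega⟩, rfl⟩
  have hli : l ≠ i := fun h => by rw [h] at hl; omega
  have hlj : l ≠ j := fun h => by rw [h] at hl; omega
  have hpj : p ≠ j := fun h => by rw [h] at hp; omega
  have hpi : p ≠ i := fun h => by rw [h] at hp; omega
  have hji : j ≠ i := fun h => by rw [h] at hij; omega
  have hqi : q ≠ i := fun h => by rw [h] at hq; omega
  have hqj : q ≠ j := fun h => by rw [h] at hq; omega
  have hqp : q ≠ p := fun h => by rw [h] at hq; omega
  have hcoll : ∀ n ∈ v, ∀ x : Fin m, (x : ℕ) + 1 < m → n j x = 0 := fun n hn x hx =>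
    hrow n hn j x (by omega) hx
  -- a vector with nonzero entry at `(j, l)`
  obtain ⟨n0, hn0, hn0j⟩ : ∃ n ∈ v, n j l ≠ 0 := by
    by_contra hcon
    push Not at hcon
    apply hM.notMem
    refine A.of_single hij fun n hn a x hD => ?_
    have h1 : (if x = j then n a i else 0) = 0 := by
      rw [hni n hn, ite_self]
    rw [h1]
    by_cases h : a = i
    · rw [if_pos h]
      by_cases h2 : (x : ℕ) + 1 < m
      · exact (hcoll n hn x h2).symm
      · have h3 : x = l := Fin.ext (by omega)
        rw [h3]
        exact (hcon n hn).symm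
    · rw [if_neg h]
  have h0a : ∀ n ∈ v, ∀ y : Fin m, (j : ℕ) < y → (y : ℕ) + 1 < m → n y l = 0 := by
    intro n hn y hy1 hy2
    refine A.row_eq (hmiss i y (by rw [Fin.lt_def]; omega) (Or.inr hy1)) hn ?_ ?_
    · simp only [not_and]; omega
    · intro h; rw [← h] at hy2; omega
  have hx0 : ∀ x ∈ e, x p j = 0 := by
    intro x hx
    have h1 := A.br hx hn0 (a := p) (b := l) (by simp only [not_and]; omega)
    have h2 : (n0 * x) p l = 0 := by
      rw [Matrix.mul_apply]
      refine Finset.sum_eq_zero fun b _ => ?_
      by_cases hb : (b : ℕ) + 1 < m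
      · rw [hrow n0 hn0 p b (by omega) hb, zero_mul]
      · rw [Lev.apply_eq_zero (he.le hx) (i := b) (j := l) (by omega), mul_zero]
    have h3 : (x * n0) p l = x p j * n0 j l := by
      rw [Matrix.mul_apply]
      refine Finset.sum_eq_single j (fun b _ hb => ?_) (fun h => absurd (Finset.mem_univ _) h)
      have hb' : (b : ℕ) ≠ j := fun h => hb (Fin.ext h)
      by_cases h4 : (j : ℕ) < b
      · by_cases h5 : (b : ℕ) + 1 < m
        · rw [h0a n0 hn0 b h4 h5, mul_zero]
        · rw [A.apply_eq_zero hn0 (i := b) (j := l) (by omega), mul_zero]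
      · rw [Lev.apply_eq_zero (he.le hx) (i := p) (j := b) (by omega), zero_mul]
    rw [h2, h3] at h1
    exact (mul_eq_zero.1 h1.symm).resolve_right hn0j
  have hInv := hM.inv he
  -- rank one
  have hr : Module.finrank F v ≤ Module.finrank F
      (cen (pat F fun a x : Fin m => (a : ℕ) < i ∧ (x : ℕ) + 1 = m) v (single i j (1 : F))) + 1 := by
    refine finrank_le_cen (fun _ : Fin 1 => (j, l)) fun y hy hy0 => ?_
    have hy1 : y j l = 0 := hy0 0
    refine mem_pat'.2 fun a b _ => ?_
    rw [Matrix.sub_apply, single_mul_entry, mul_single_entry, hni y hy, zero_mul, ite_self,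
      sub_zero]
    by_cases h : a = i
    · rw [if_pos h, one_mul]
      by_cases h2 : (b : ℕ) + 1 < m
      · exact hcoll y hy b h2
      · have h3 : b = l := Fin.ext (by omega)
        rw [h3, hy1]
    · rw [if_neg h]
  obtain ⟨c', hc'⟩ := exists_comb A (x := single i j (1 : F)) (y := single i p (1 : F)) hInv hInv
    (single_mem_lev (by omega) _)
    (fun y hy => by
      refine mem_of_supp fun a b hab => ?_
      rw [single_mul_entry] at hab
      by_cases ha : a = i
      · rw [if_pos ha, one_mul] at hab
        have h1 := mem_lt he.le hy hab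
        rw [ha]
        refine hmiss i b (by rw [Fin.lt_def]; omega) (Or.inr ?_)
        by_contra h2
        have h3 : b = j := Fin.ext (by omega)
        rw [h3, hx0 y hy] at hab
        exact hab rfl
      · rw [if_neg ha] at hab
        exact absurd rfl hab)
    (fun y hy => by
      refine mem_of_supp fun a b hab => ?_
      rw [mul_single_entry] at hab
      by_cases hb : b = p
      · rw [if_pos hb, mul_one] at hab
        have h1 := mem_lt he.le hy hab
        rw [hb]
        exact hmiss a p (by rw [Fin.lt_def]; omega) (Or.inl h1)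
      · rw [if_neg hb] at hab
        exact absurd rfl hab)
    (by rw [single_mul_single_of_ne (h := hpi)]; exact zero_mem _)
    (by rw [single_mul_single_of_ne (h := hji)]; exact zero_mem _)
    (by rw [single_mul_single_of_ne (h := hpi)]; exact zero_mem _) hr
  set y1 : Mat := single i p (1 : F) + c' • single i j (1 : F) with hy1
  -- root elements in the lower central series
  have hser : ∀ s : ℕ, ∀ b : Fin m, (b : ℕ) = j + 1 + s → ∀ hib : i < b, ∀ c : F,
      root i b hib c ∈ (ofAlg e he).lowerCentralSeries (s + 1) := by
    intro s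
    induction s with
    | zero =>
      intro b hb hib c
      have hbq : b = q := Fin.ext (by omega)
      subst hbq
      have hpb : p < b := by rw [Fin.lt_def]; omega
      have hMa : Mem e p b := hmiss p b hpb (Or.inr (by omega))
      have hcy : c • y1 ∈ e := e.smul_mem _ hc'
      have hsub : (c • y1 : Mat) = single i p c + single i j (c * c') := by
        rw [hy1, smul_add, smul_smul, ← single_smul_one, ← single_smul_one]
      have h1 := comm_eq (x := c • y1) (he.le hcy)
        (g := mk (single p b (1 : F)) (single_mem_lev (by omega) _))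
        (w := single i b c) (single_mem_lev (by omega) _) (by
          rw [N_mk, hsub, mul_add, add_mul, single_mul_single_same, mul_one,
            single_mul_single_of_ne (h := hpj.symm), single_mul_single_of_ne (h := hqi),
            single_mul_single_of_ne (h := hqi), add_zero, add_zero, sub_zero])
        (by rw [N_mk, single_mul_single_of_ne (h := hqp)])
        (by
          rw [hsub, mul_add, single_mul_single_of_ne (h := hqi),
            single_mul_single_of_ne (h := hqi), add_zero])
      have h2 : root i b hib c = mk (single i b c) (single_mem_lev (by omega) _) := rfl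
      rw [h2, ← h1, Subgroup.lowerCentralSeries_succ, Subgroup.lowerCentralSeries_zero]
      refine Subgroup.commutator_mem_commutator ?_ ?_
      · rw [mem_ofAlg, N_mk]; exact hcy
      · rw [mem_ofAlg, N_mk]; exact hMa
    | succ s ih =>
      intro b' hb' hib' c
      obtain ⟨b, hb⟩ : ∃ b : Fin m, (b : ℕ) + 1 = b' :=
        ⟨⟨b' - 1, by omega⟩, by simp only; omega⟩
      have hbb : b < b' := by rw [Fin.lt_def]; omega
      have hib : i < b := by rw [Fin.lt_def]; omega
      have h1 := ih b (by omega) hib c
      rw [← lev_one_comm_root hib hbb c, Subgroup.lowerCentralSeries_succ]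
      exact Subgroup.commutator_mem_commutator h1
        (root_mem (hmiss b b' hbb (Or.inr (by omega))) hbb 1)
  refine A.a8 (single i j (1 : F)) hInv (l - j) ?_ ?_
  · intro g hg hgv
    refine mem_pat'.2 fun a b _ => ?_
    rw [Matrix.sub_apply, single_mul_entry, mul_single_entry, hni _ hgv, zero_mul, ite_self,
      sub_zero]
    by_cases h : a = i
    · rw [if_pos h, one_mul]
      by_cases h2 : (b : ℕ) + 1 < m
      · exact hcoll _ hgv b h2
      · exact Lev.apply_eq_zero (lev_of_lcs hg) (by omega)
    · rw [if_neg h]
  · intro g hg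
    have hil : i < l := by rw [Fin.lt_def]; omega
    refine ⟨root i l hil (N g j l), ?_, ?_, ?_⟩
    · have h1 := hser (l - j - 1) l (by omega) hil (N g j l)
      rwa [Nat.sub_add_cancel (by omega)] at h1
    · rw [N_root]
      refine (A.mem_v _).2 ⟨single_mem_lev (by omega) _, ?_, fun x hx => mem_pat'.2 fun a b hD => ?_⟩
      · rw [single_mul_single_of_ne (h := hli)]
        exact zero_mem _
      · rw [Matrix.sub_apply, single_mul_entry, mul_single_entry]
        have h1 : x l b = 0 := Lev.apply_eq_zero (he.le hx) (by omega)
        rw [h1, mul_zero, ite_self, zero_sub, neg_eq_zero]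
        by_cases hb : b = l
        · rw [if_pos hb]
          have h2 : x a i = 0 := by
            refine Lev.apply_eq_zero (he.le hx) ?_
            by_contra h3
            apply hD
            rw [hb]
            exact ⟨by omega, hl⟩
          rw [h2, zero_mul]
        · rw [if_neg hb]
    · have h1 := comm_eq (x := single i j (1 : F)) hInv.lev (g := g)
        (w := single i l (N g j l)) (single_mem_lev (by omega) _) (by
          ext a b
          rw [Matrix.sub_apply, single_mul_entry, mul_single_entry, hni _ hg, zero_mul, ite_self,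
            sub_zero]
          by_cases h : a = i
          · rw [if_pos h, one_mul, h]
            by_cases h2 : (b : ℕ) + 1 < m
            · rw [hcoll _ hg b h2, single_apply_of_col_ne]
              intro h3
              rw [← h3] at h2
              omega
            · have h3 : b = l := Fin.ext (by omega)
              rw [h3, single_apply_same]
          · rw [if_neg h, single_apply_of_row_ne]
            exact fun h3 => h h3.symm)
        (by
          ext a b
          rw [single_mul_entry, A.apply_eq_zero hg (i := l) (j := b) (by omega), mul_zero,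
            ite_self]
          rfl)
        (by rw [single_mul_single_of_ne (h := hli)])
      rw [h1, N_mk, N_root, sub_self]
      exact zero_mem _

end Cfsg.Agent.SylowL.StepTwo
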