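import Cfsg.Agent.SylowL.StepTwo.Basic

/-!
# Step 2: tools
-/

set_option autoImplicit false

namespace Cfsg.Agent.SylowL.StepTwo

open Matrix
open scoped commutatorElement
open Cfsg.Agent.SylowL.Lev Cfsg.Agent.SylowL.UT Cfsg.Agent.SylowL.Pat
open Cfsg.Agent.SylowL.Series Cfsg.Agent.SylowL.Lower

variable {m : ℕ} {F : Type*} [Field F]

local notation "Mat" => Matrix (Fin m) (Fin m) F

/-! ### Missing positions -/

/-- The position `(i, j)` is in `e`. -/
def Mem (e : Submodule F Mat) (i j : Fin m) : Prop := single i j (1 : F) ∈ e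

/-- `(i, j)` is a maximal missing position. -/
structure Max (e : Submodule F Mat) (i j : Fin m) : Prop where
  lt : i < j
  notMem : ¬ Mem e i j
  mem : ∀ a b, a ≤ i → j ≤ b → (a ≠ i ∨ b ≠ j) → Mem e a b

theorem exists_max {e : Submodule F Mat} {i j : Fin m} (hij : i < j) (h : ¬ Mem e i j) :
    ∃ a b, a ≤ i ∧ j ≤ b ∧ Max e a b := by
  classical
  have key : ∀ d : ℕ, ∀ i j : Fin m, i < j → ¬ Mem e i j → m + i - j ≤ d →
      ∃ a b, a ≤ i ∧ j ≤ b ∧ Max e a b := by
    intro d
    induction d with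
    | zero =>
      intro i j _ _ h3
      have := j.2
      omega
    | succ d ih =>
      intro i j h1 h2 h3
      by_cases h4 : ∀ a b, a ≤ i → j ≤ b → (a ≠ i ∨ b ≠ j) → Mem e a b
      · exact ⟨i, j, le_rfl, le_rfl, h1, h2, h4⟩
      · push Not at h4
        obtain ⟨a, b, ha, hb, hab, hM⟩ := h4
        have h5 : (a : ℕ) ≤ i := ha
        have h6 : (j : ℕ) ≤ b := hb
        have h7 : (i : ℕ) < j := h1
        have h8 : (a : ℕ) ≠ i ∨ (b : ℕ) ≠ j := by
          rcases hab with h | h
          · left; exact fun h' => h (Fin.ext h')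
          · right; exact fun h' => h (Fin.ext h')
        obtain ⟨a', b', h9, h10, h11⟩ := ih a b (by rw [Fin.lt_def]; omega) hM (by omega)
        exact ⟨a', b', h9.trans ha, hb.trans h10, h11⟩
  exact key _ i j hij h le_rfl

theorem Max.mem_of_lt {e : Submodule F Mat} {i j a b : Fin m} (h : Max e i j)
    (h1 : (a : ℕ) ≤ i) (h2 : (j : ℕ) ≤ b) (h3 : (a : ℕ) < i ∨ (j : ℕ) < b) : Mem e a b := by
  refine h.mem a b h1 h2 ?_
  rcases h3 with h3 | h3
  · left; intro h4; rw [h4] at h3; omega
  · right; intro h4; rw [h4] at h3; omega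

theorem mem_lt {e : Submodule F Mat} (he : e ≤ lev m F 1) {y : Mat} (hy : y ∈ e) {a b : Fin m}
    (h : y a b ≠ 0) : (a : ℕ) < b := he hy a b h

theorem Max.inv {e : Submodule F Mat} (he : IsAlg e) {i j : Fin m} (h : Max e i j) :
    Inv e (single i j (1 : F)) := by
  have h1 : (i : ℕ) < j := h.lt
  refine ⟨single_mem_lev (by omega) _, h.notMem, ?_, fun y hy => ?_, fun y hy => ?_⟩
  · rw [single_mul_single_of_ne (h := h.lt.ne')]
    exact zero_mem _
  · refine mem_of_supp fun a b hab => ?_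
    rw [single_mul_entry] at hab
    by_cases ha : a = i
    · rw [if_pos ha, one_mul] at hab
      rw [ha]
      exact h.mem_of_lt le_rfl (le_of_lt (mem_lt he.le hy hab)) (Or.inr (mem_lt he.le hy hab))
    · rw [if_neg ha] at hab
      exact absurd rfl hab
  · refine mem_of_supp fun a b hab => ?_
    rw [mul_single_entry] at hab
    by_cases hb : b = j
    · rw [if_pos hb, mul_one] at hab
      rw [hb]
      exact h.mem_of_lt (le_of_lt (mem_lt he.le hy hab)) le_rfl (Or.inl (mem_lt he.le hy hab))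
    · rw [if_neg hb] at hab
      exact absurd rfl hab

/-- Elements which are missing lie below a maximal missing position. -/
theorem eq_of_unique {e : Submodule F Mat} {i j : Fin m}
    (h : ∀ a b, Max e a b → a = i ∧ b = j) {a b : Fin m} (hab : a < b)
    (h1 : (a : ℕ) < i ∨ (j : ℕ) < b) : Mem e a b := by
  by_contra h2
  obtain ⟨a', b', h3, h4, h5⟩ := exists_max hab h2
  obtain ⟨rfl, rfl⟩ := h a' b' h5
  have h6 : (a' : ℕ) ≤ a := h3
  have h7 : (b : ℕ) ≤ b' := h4
  omega

/-- Final step: `e` contains all matrix units except for one on the first diagonal. -/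
theorem final {e : Submodule F Mat} (he : IsAlg e) {i j : Fin m} (hij : (i : ℕ) + 1 = j)
    (h0 : ¬ Mem e i j) (h : ∀ a b : Fin m, a < b → (a ≠ i ∨ b ≠ j) → Mem e a b) :
    ∀ x, x ∈ e ↔ x ∈ lev m F 1 ∧ x i j = 0 := by
  have h1 : ∀ x : Mat, x ∈ lev m F 1 → x i j = 0 → x ∈ e := by
    intro x hx h2
    refine mem_of_supp fun a b hab => ?_
    refine h a b (hx a b hab) ?_
    by_contra h3
    push Not at h3
    rw [h3.1, h3.2] at hab
    exact hab h2
  intro x
  constructor
  · intro hx
    refine ⟨he.le hx, ?_⟩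
    by_contra h2
    apply h0
    have h3 : x - x i j • single i j (1 : F) ∈ e := by
      apply h1
      · refine sub_mem (he.le hx) (Submodule.smul_mem _ _ (single_mem_lev (by omega) _))
      · rw [Matrix.sub_apply, Matrix.smul_apply, single_apply_same, smul_eq_mul, mul_one, sub_self]
    have h4 := sub_mem hx h3
    rw [sub_sub_cancel] at h4
    have h5 := e.smul_mem (x i j)⁻¹ h4
    rwa [smul_smul, inv_mul_cancel₀ h2, one_smul] at h5
  · rintro ⟨h2, h3⟩
    exact h1 x h2 h3

/-! ### Tools for `Act` -/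

variable {e : Submodule F (Matrix (Fin m) (Fin m) F)} {he : IsAlg e} {CY : Subgroup (UT m F)}
  {D : Fin m → Fin m → Prop} {k v : Submodule F (Matrix (Fin m) (Fin m) F)}

theorem Act.br (A : Act e he CY (pat F D) v) {x n : Mat} (hx : x ∈ e) (hn : n ∈ v) {a b : Fin m}
    (hD : ¬ D a b) : (n * x) a b = (x * n) a b := by
  have h := ((A.mem_e x).1 hx).2 n hn
  have h2 := mem_pat'.1 h a b hD
  rw [Matrix.sub_apply, sub_eq_zero] at h2
  exact h2

/-- If `(i, j)` is in `e`, then column `i` and row `j` of `n ∈ v` satisfy conditions. -/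
theorem Act.brs (A : Act e he CY (pat F D) v) {i j : Fin m} (hx : Mem e i j) {n : Mat}
    (hn : n ∈ v) {a b : Fin m} (hD : ¬ D a b) :
    (if b = j then n a i else 0) = (if a = i then n j b else 0) := by
  have h := A.br hx hn hD
  rwa [single_mul_entry, mul_single_entry, one_mul, mul_one] at h

theorem Act.col_eq (A : Act e he CY (pat F D) v) {i j : Fin m} (hx : Mem e i j) {n : Mat}
    (hn : n ∈ v) {a : Fin m} (hD : ¬ D a j) (ha : a ≠ i) : n a i = 0 := by
  have h := A.brs hx hn hD
  rwa [if_pos rfl, if_neg ha] at h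

theorem Act.row_eq (A : Act e he CY (pat F D) v) {i j : Fin m} (hx : Mem e i j) {n : Mat}
    (hn : n ∈ v) {b : Fin m} (hD : ¬ D i b) (hb : b ≠ j) : n j b = 0 := by
  have h := A.brs hx hn hD
  rwa [if_neg hb, if_pos rfl, eq_comm] at h

theorem Act.v_lev (A : Act e he CY k v) {n : Mat} (hn : n ∈ v) : n ∈ lev m F 1 :=
  ((A.mem_v n).1 hn).1

theorem Act.apply_eq_zero (A : Act e he CY k v) {n : Mat} (hn : n ∈ v) {i j : Fin m}
    (h : (j : ℕ) ≤ i) : n i j = 0 := Lev.apply_eq_zero (A.v_lev hn) (by omega)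

theorem Act.of_single (A : Act e he CY (pat F D) v) {i j : Fin m} (hij : (i : ℕ) < j)
    (h : ∀ n ∈ v, ∀ a b, ¬ D a b →
      (if b = j then n a i else 0) = (if a = i then n j b else 0)) : Mem e i j := by
  refine (A.mem_e _).2 ⟨single_mem_lev (by omega) _, fun n hn => mem_pat'.2 fun a b hD => ?_⟩
  rw [Matrix.sub_apply, sub_eq_zero, single_mul_entry, mul_single_entry, one_mul, mul_one]
  exact h n hn a b hD

/-- A linearly independent family of commuting involutions gives a lower bound for the rank. -/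
theorem Act.family (A : Act e he CY k v) {n : ℕ} (x : Fin n → Mat)
    (hx : ∀ s, x s ∈ lev m F 1) (hl : ∀ s, ∀ y ∈ e, x s * y ∈ e) (hr : ∀ s, ∀ y ∈ e, y * x s ∈ e)
    (hm : ∀ s t, x s * x t ∈ e) (hi : ∀ c : Fin n → F, ∑ s, c s • x s ∈ e → c = 0)
    {z : Mat} (hz : Inv e z) :
    n + Module.finrank F (cen k v z) ≤ Module.finrank F v := by
  let φ : (↥e × (Fin n → F)) →ₗ[F] Mat :=
    (e.subtype.coprod (∑ s, (LinearMap.toSpanSingleton F Mat (x s)).comp (LinearMap.proj s)))
  have hφ : ∀ p, φ p = p.1 + ∑ s, p.2 s • x s := by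
    intro p
    simp [φ, LinearMap.sum_apply]
  have hinj : Function.Injective φ := by
    rw [← LinearMap.ker_eq_bot, LinearMap.ker_eq_bot']
    rintro ⟨y, c⟩ h
    rw [hφ] at h
    simp only at h
    have h1 : ∑ s, c s • x s ∈ e := by
      rw [← neg_eq_of_add_eq_zero_right h]
      exact neg_mem y.2
    have h2 := hi c h1
    subst h2
    simp only [Pi.zero_apply, zero_smul, Finset.sum_const_zero, add_zero] at h
    have h3 : y = 0 := Subtype.ext h
    rw [h3]
    rfl
  have hfr : Module.finrank F (LinearMap.range φ) = Module.finrank F e + n := by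
    rw [LinearMap.finrank_range_of_inj hinj, Module.finrank_prod, Module.finrank_fin_fun]
  have hmem : ∀ {z}, z ∈ LinearMap.range φ ↔ ∃ y ∈ e, ∃ c : Fin n → F, z = y + ∑ s, c s • x s := by
    intro z
    constructor
    · rintro ⟨p, rfl⟩
      exact ⟨p.1, p.1.2, p.2, hφ p⟩
    · rintro ⟨y, hy, c, rfl⟩
      exact ⟨(⟨y, hy⟩, c), hφ _⟩
  have h := A.p4 (LinearMap.range φ) ?_ ?_ ?_ z hz
  · rw [hfr] at h
    omega
  · intro y hy
    rw [hmem]
    exact ⟨y, hy, 0, by simp⟩
  · intro z hz
    obtain ⟨y, hy, c, rfl⟩ := hmem.1 hz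
    exact add_mem (he.le hy) (Submodule.sum_mem _ fun s _ => Submodule.smul_mem _ _ (hx s))
  · intro z1 hz1 z2 hz2
    obtain ⟨y1, hy1, c1, rfl⟩ := hmem.1 hz1
    obtain ⟨y2, hy2, c2, rfl⟩ := hmem.1 hz2
    rw [add_mul, mul_add, mul_add]
    refine add_mem (add_mem (he.mul _ hy1 _ hy2) ?_) (add_mem ?_ ?_)
    · rw [Finset.mul_sum]
      refine Submodule.sum_mem _ fun s _ => ?_
      rw [mul_smul_comm]
      exact e.smul_mem _ (hr s _ hy1)
    · rw [Finset.sum_mul]
      refine Submodule.sum_mem _ fun s _ => ?_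
      rw [smul_mul_assoc]
      exact e.smul_mem _ (hl s _ hy2)
    · rw [Finset.sum_mul]
      refine Submodule.sum_mem _ fun s _ => ?_
      rw [smul_mul_assoc, Finset.mul_sum]
      refine e.smul_mem _ (Submodule.sum_mem _ fun t _ => ?_)
      rw [mul_smul_comm]
      exact e.smul_mem _ (hm s t)

/-- Upper bound for the rank by a number of linear conditions on entries. -/
theorem finrank_le_cen {n : ℕ} (p : Fin n → Fin m × Fin m) {z : Mat}
    (h : ∀ y ∈ v, (∀ t, y (p t).1 (p t).2 = 0) → z * y - y * z ∈ k) :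
    Module.finrank F v ≤ Module.finrank F (cen k v z) + n := by
  let f : ↥v →ₗ[F] (Fin n → F) :=
    LinearMap.pi fun t => (Matrix.entryLinearMap F F (p t).1 (p t).2).comp v.subtype
  have hf : ∀ y : ↥v, ∀ t, f y t = (y : Mat) (p t).1 (p t).2 := fun y t => rfl
  have h1 := LinearMap.finrank_range_add_finrank_ker f
  have h2 : Module.finrank F (LinearMap.range f) ≤ n := by
    refine (Submodule.finrank_le _).trans ?_
    rw [Module.finrank_fin_fun]
  have h3 : Module.finrank F (LinearMap.ker f) ≤ Module.finrank F (cen k v z) := by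
    rw [← LinearMap.finrank_range_of_inj (f := v.subtype.comp (LinearMap.ker f).subtype)
      (v.injective_subtype.comp (LinearMap.ker f).injective_subtype)]
    apply Submodule.finrank_mono
    rintro _ ⟨y, rfl⟩
    refine mem_cen.2 ⟨(y : ↥v).2, h _ (y : ↥v).2 fun t => ?_⟩
    exact congrFun (LinearMap.mem_ker.1 y.2) t
  omega

end Cfsg.Agent.SylowL.StepTwo
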